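import Groth.Agent.BiextTriv.Rigid
import Groth.Agent.Rigid.Smooth
import Groth.Agent.MTBridge.CentralNhd
import Groth.Prelude.Def_CGrpSh2
import Mathlib.AlgebraicGeometry.Morphisms.Proper
import Mathlib.AlgebraicGeometry.Fiber

/-!
No biadditive maps of abelian schemes.
-/

set_option autoImplicit false
set_option backward.isDefEq.respectTransparency false
set_option backward.isDefEq.respectTransparency.types false

universe u

open CategoryTheory CategoryTheory.Limits MonoidalCategory CartesianMonoidalCategory MonObj AlgebraicGeometry Opposite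

namespace Groth.Agent.BiextTriv

theorem noBiadd_abelian {S : Scheme.{u}} (A₁ A₂ A₃ : Over S)
    [GrpObj A₁] [IsCommMonObj A₁] [Smooth A₁.hom] [IsProper A₁.hom]
    (hA₁ : ∀ s : S, ConnectedSpace ↥(A₁.hom.fiber s))
    [GrpObj A₂] [IsCommMonObj A₂] (hA₂ : ∀ s : S, ConnectedSpace ↥(A₂.hom.fiber s))
    [GrpObj A₃] [IsCommMonObj A₃] [IsSeparated A₃.hom] :
    NoBiadd (CGrpSh.pts Scheme.fppfPrecoverage A₁) (CGrpSh.pts Scheme.fppfPrecoverage A₂)
      (CGrpSh.pts Scheme.fppfPrecoverage A₃) := by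
  intro g hnat hadd₁ hadd₂ T p q
  let A₁₂ : Over S := A₁ ⊗ A₂
  let φ : A₁₂ ⟶ A₃ := (g A₁₂ (ULift.up (Additive.ofMul (fst A₁ A₂))) (ULift.up (Additive.ofMul (snd A₁ A₂)))).down.toMul
  have hz₁ : ∀ (T : Over S) q, g T 0 q = 0 := fun T q => by
    have := hadd₁ T 0 0 q; rw [add_zero] at this; exact left_eq_add.mp this
  have hz₂ : ∀ (T : Over S) p, g T p 0 = 0 := fun T p => by
    have := hadd₂ T p 0 0; rw [add_zero] at this; exact left_eq_add.mp this
  have hg : ∀ (T : Over S) (p : T ⟶ A₁) (q : T ⟶ A₂), lift p q ≫ φ =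
      (g T (ULift.up (Additive.ofMul p)) (ULift.up (Additive.ofMul q))).down.toMul := by
    intro T p q
    have h := hnat (lift p q) (ULift.up (Additive.ofMul (fst A₁ A₂))) (ULift.up (Additive.ofMul (snd A₁ A₂)))
    refine (congrArg (fun z => z.down.toMul) h).trans ?_
    change (g T (ULift.up (Additive.ofMul (lift p q ≫ fst A₁ A₂))) (ULift.up (Additive.ofMul (lift p q ≫ snd A₁ A₂)))).down.toMul = _
    rw [lift_fst, lift_snd]
  haveI : GeometricallyIrreducible A₁.hom :=
    Groth.Agent.MTBridge.geometricallyIrreducible_of_connectedSpace (G := A₁) hA₁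
  haveI : GeometricallyConnected A₁.hom :=
    Groth.Agent.GeomConn.geometricallyConnected_of_irreducible A₁.hom
  have hc : ∀ s : S, _root_.IsPreconnected (A₂.hom ⁻¹' {s}) := fun s => by
    haveI : ConnectedSpace ↥(A₂.hom.fiber s) := hA₂ s
    haveI := (A₂.hom.fiberHomeo s).surjective.connectedSpace (A₂.hom.fiberHomeo s).continuous
    exact (isConnected_iff_connectedSpace.2 ‹_›).isPreconnected
  have hφ := Groth.Agent.Rigid.eq_const_of_axes (Groth.Agent.Rigid.goodFibres_of_smooth A₁.hom)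
    (1 : 𝟙_ (Over S) ⟶ A₁) (1 : 𝟙_ (Over S) ⟶ A₂) hc φ (1 : 𝟙_ (Over S) ⟶ A₃)
    (by rw [MonObj.comp_one, hg, MonObj.comp_one]; exact congrArg (fun z => z.down.toMul) (hz₂ A₁ _))
    (by rw [MonObj.comp_one, hg, MonObj.comp_one]; exact congrArg (fun z => z.down.toMul) (hz₁ A₂ _))
  obtain ⟨p⟩ := p
  obtain ⟨q⟩ := q
  refine ULift.ext _ _ ?_
  obtain ⟨p, rfl⟩ := Additive.ofMul.surjective p
  obtain ⟨q, rfl⟩ := Additive.ofMul.surjective q
  change (g T (ULift.up (Additive.ofMul p)) (ULift.up (Additive.ofMul q))).down.toMul = (1 : T ⟶ A₃)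
  rw [← hg, hφ, MonObj.comp_one, MonObj.comp_one]

theorem hom_homSh_eq_zero {C : Type (u + 1)} [Category.{u} C] {J : GrothendieckTopology C}
    {P Q G : Sheaf J AddCommGrpCat.{u + 1}} (h : NoBiadd P Q G) (φ : P ⟶ HomSh.homSh J Q G) : φ = 0 := by
  let ψ : ∀ T : C, P.obj.obj (op T) → (Q.over T ⟶ G.over T) := fun T p => φ.hom.app (op T) p
  let g : (T : C) → P.obj.obj (op T) → Q.obj.obj (op T) → G.obj.obj (op T) := fun T p q =>
    (ψ T p).hom.app (op (Over.mk (𝟙 T))) q
  have hres : ∀ {T T' : C} (f : T' ⟶ T) p (V : Over T') (q : Q.obj.obj (op V.left)),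
      (ψ T' (P.obj.map f.op p)).hom.app (op V) q = (ψ T p).hom.app (op (Over.mk (V.hom ≫ f))) q :=
    fun {T T'} f p V q => congr_arg (fun x : Q.over T' ⟶ G.over T' => x.hom.app (op V) q)
      (NatTrans.naturality_apply φ.hom f.op p)
  have hg : ∀ (T : C) p (U : Over T) (q : Q.obj.obj (op U.left)),
      (ψ T p).hom.app (op U) q = g U.left (P.obj.map U.hom.op p) q := by
    intro T p U q
    refine Eq.trans ?_ (hres U.hom p (Over.mk (𝟙 U.left)) q).symm
    have key : ∀ (k : U.left ⟶ T), k = U.hom → (ψ T p).hom.app (op U) q = (ψ T p).hom.app (op (Over.mk k)) q := by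
      rintro k rfl; rfl
    exact key _ (Category.id_comp U.hom)
  have hzero := h g
    (fun {T T'} f p q => (NatTrans.naturality_apply (ψ T p).hom
        (Over.homMk f (Category.comp_id f) : Over.mk f ⟶ Over.mk (𝟙 T)).op q).symm.trans
      (hg T p (Over.mk f) (Q.obj.map f.op q)))
    (fun T p p' q => congr_arg (fun x : Q.over T ⟶ G.over T => x.hom.app (op (Over.mk (𝟙 T))) q)
      (map_add (φ.hom.app (op T)).hom p p'))
    (fun T p q q' => map_add ((ψ T p).hom.app (op (Over.mk (𝟙 T)))).hom q q')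
  refine Sheaf.hom_ext (NatTrans.ext (funext fun T => AddCommGrpCat.ext fun p =>
    Sheaf.hom_ext (NatTrans.ext (funext fun U => AddCommGrpCat.ext fun q => ?_))))
  exact (hg T.unop p U.unop q).trans (hzero _ _ _)

end Groth.Agent.BiextTriv
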