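import Groth.Agent.BiextTriv.Triv

/-!
Pull-back of biextensions along multiplications on divisible sheaves has trivial kernel.
-/

set_option autoImplicit false
set_option backward.isDefEq.respectTransparency false
set_option backward.isDefEq.respectTransparency.types false
set_option linter.unusedVariables false

universe u

open CategoryTheory Category Limits Opposite

namespace Groth.Agent.BiextTriv

variable {C : Type (u + 1)} [Category.{u} C] {J : GrothendieckTopology C}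
variable {P Q G : Sheaf J AddCommGrpCat.{u + 1}} (B : Biext J P Q G)

lemma zsmul_app (P : Sheaf J AddCommGrpCat.{u + 1}) (n : ℤ) (T : C) (p : P.obj.obj (op T)) :
    (n • 𝟙 P).hom.app (op T) p = n • p := rfl

lemma exists_local_zsmul [HasSheafify J AddCommGrpCat.{u + 1}] [J.WEqualsLocallyBijective AddCommGrpCat.{u + 1}]
    {n : ℤ} (hn : Epi (n • 𝟙 P)) (T : C) (p : P.obj.obj (op T)) :
    ∃ R ∈ J T, ∀ ⦃T' : C⦄ (k : T' ⟶ T), R k → ∃ p', n • p' = P.obj.map k.op p := by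
  haveI := hn
  haveI : Sheaf.IsLocallySurjective (n • 𝟙 P) := (Sheaf.isLocallySurjective_iff_epi' _ _).mpr inferInstance
  exact ⟨_, Presheaf.imageSieve_mem J (n • 𝟙 P).hom p,
    fun T' k hk => ⟨_, (zsmul_app P n T' _).symm.trans (Presheaf.app_localPreimage (n • 𝟙 P).hom p k hk)⟩⟩

/-- Sections of `B` above `(n p, m q)`, biadditive. -/
structure Mult (n m : ℤ) : Type (u + 1) where
  /-- the sections -/
  τ : ∀ T : C, P.obj.obj (op T) → Q.obj.obj (op T) → B.E.obj.obj (op T)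
  πP_τ : ∀ T p q, B.πP T (τ T p q) = n • p
  πQ_τ : ∀ T p q, B.πQ T (τ T p q) = m • q
  τ_map : ∀ {T T' : C} (f : T' ⟶ T) p q, B.E.obj.map f.op (τ T p q) = τ T' (P.obj.map f.op p) (Q.obj.map f.op q)
  τ_add₁ : ∀ T p p' q, τ T (p + p') q = B.add₁ T (τ T p q) (τ T p' q) ((πQ_τ T p q).trans (πQ_τ T p' q).symm)
  τ_add₂ : ∀ T p q q', τ T p (q + q') = B.add₂ T (τ T p q) (τ T p q') ((πP_τ T p q).trans (πP_τ T p q').symm)

variable {B} {n m : ℤ}

/-- Exchange the factors. -/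
def Mult.swap (M : Mult B n m) : Mult (Groth.Agent.BiextTriv.swap B) m n where
  τ T q p := M.τ T p q
  πP_τ T q p := M.πQ_τ T p q
  πQ_τ T q p := M.πP_τ T p q
  τ_map f q p := M.τ_map f p q
  τ_add₁ T q q' p := M.τ_add₂ T p q q'
  τ_add₂ T q p p' := M.τ_add₁ T p p' q

lemma Mult.eq_zero (M : Mult B n m) [HasSheafify J AddCommGrpCat.{u + 1}]
    [J.WEqualsLocallyBijective AddCommGrpCat.{u + 1}] (hQ : Epi (n • 𝟙 Q)) {T : C} (d : P.obj.obj (op T))
    (hd : n • d = 0) (q : Q.obj.obj (op T)) :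
    M.τ T d q = z₂ (Groth.Agent.BiextTriv.swap B) T (m • q) := by
  let Kr : ∀ T : C, AddSubgroup (P.obj.obj (op T)) := fun T =>
    (n • AddMonoidHom.id (P.obj.obj (op T))).ker
  have hex : ∀ (T : C) (d : Kr T) q, ∃ c, M.τ T d.1 q = B.act T c (z₂ (Groth.Agent.BiextTriv.swap B) T (m • q)) :=
    fun T d q => exists_act _ _ ((πQ_z₂ (Groth.Agent.BiextTriv.swap B) T _).trans
      ((show n • d.1 = 0 from d.2).symm.trans (M.πP_τ T d.1 q).symm))
      ((πP_z₂ (Groth.Agent.BiextTriv.swap B) T _).trans (M.πQ_τ T d.1 q).symm)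
  choose c hc using hex
  have hc₁ : ∀ T d d' q, c T (d + d') q = c T d q + c T d' q := fun T d d' q => act_free B
    ((hc T (d + d') q).symm.trans ((M.τ_add₁ T d.1 d'.1 q).trans
      ((add₂_congr (Groth.Agent.BiextTriv.swap B) (hc T d q) (hc T d' q) _).trans
        ((act_add₁ B _ _ _ _ rfl).trans
          (congr_arg (B.act T _) (z₂_spec (Groth.Agent.BiextTriv.swap B) T (m • q)).2.2)))))
  have hc₂ : ∀ T d q q', c T d (q + q') = c T d q + c T d q' := fun T d q q' => act_free B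
    ((hc T d (q + q')).symm.trans ((M.τ_add₂ T d.1 q q').trans
      ((add₂_congr B (hc T d q) (hc T d q') _).trans ((act_add₂ B _ _ _ _ _).trans
        (congr_arg (B.act T _) ((z₁_add _ _).symm.trans
          (congr_arg _ (zsmul_add q q' m).symm)))))))
  obtain ⟨R, hR, hl⟩ := exists_local_zsmul hQ T q
  have h0 : c T ⟨d, hd⟩ q = 0 := by
    refine ab_ext_local G hR _ _ fun T' k hk => ?_
    obtain ⟨q', hq'⟩ := hl k hk
    have hd' : n • P.obj.map k.op d = 0 := by rw [← map_zsmul, hd, map_zero]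
    have hk' : G.obj.map k.op (c T ⟨d, hd⟩ q) = c T' ⟨P.obj.map k.op d, hd'⟩ (Q.obj.map k.op q) := act_free B
      (((B.act_map k _ _).symm.trans ((congr_arg (B.E.obj.map k.op) (hc T ⟨d, hd⟩ q).symm).trans
        ((M.τ_map k d q).trans (hc T' ⟨_, hd'⟩ _)))) |> fun e =>
        (congr_arg (B.act T' _) ((z₂_map (Groth.Agent.BiextTriv.swap B) k _).trans
          (congr_arg _ (map_zsmul (Q.obj.map k.op).hom m q))).symm).trans e)
    let a : Kr T' →+ G.obj.obj (op T') := AddMonoidHom.mk' (fun d => c T' d q') fun d d' => hc₁ T' d d' q'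
    let b : Q.obj.obj (op T') →+ G.obj.obj (op T') :=
      AddMonoidHom.mk' (fun q => c T' ⟨P.obj.map k.op d, hd'⟩ q) fun q q' => hc₂ T' _ q q'
    rw [hk', ← hq', map_zero]
    change b (n • q') = 0
    rw [map_zsmul]
    change n • a ⟨P.obj.map k.op d, hd'⟩ = 0
    rw [← map_zsmul, show n • (⟨P.obj.map k.op d, hd'⟩ : Kr T') = 0 from Subtype.ext hd', map_zero]
  exact (hc T ⟨d, hd⟩ q).trans ((congr_arg (B.act T · _) h0).trans (B.zero_act T _))

lemma Mult.indep_left (M : Mult B n m) [HasSheafify J AddCommGrpCat.{u + 1}]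
    [J.WEqualsLocallyBijective AddCommGrpCat.{u + 1}] (hQ : Epi (n • 𝟙 Q)) {T : C} (p p' : P.obj.obj (op T))
    (hp : n • p = n • p') (q : Q.obj.obj (op T)) : M.τ T p q = M.τ T p' q := by
  have hd : n • (p - p') = 0 := by rw [zsmul_sub, hp, sub_self]
  have h := M.τ_add₁ T (p - p') p' q
  rw [sub_add_cancel] at h
  exact h.trans ((add₂_congr (Groth.Agent.BiextTriv.swap B) (M.eq_zero hQ _ hd q) (Eq.refl _) _).trans
    (z₂_add₂ (Groth.Agent.BiextTriv.swap B) _ (M.πQ_τ T p' q)))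

theorem Mult.isTrivial (M : Mult B n m) [HasSheafify J AddCommGrpCat.{u + 1}]
    [J.WEqualsLocallyBijective AddCommGrpCat.{u + 1}] (hPn : Epi (n • 𝟙 P)) (hPm : Epi (m • 𝟙 P))
    (hQn : Epi (n • 𝟙 Q)) (hQm : Epi (m • 𝟙 Q)) : Biext.IsTrivial J B := by
  have indep : ∀ (T : C) (p p' : P.obj.obj (op T)) (q q' : Q.obj.obj (op T)), n • p = n • p' → m • q = m • q' →
      M.τ T p q = M.τ T p' q' := fun T p p' q q' hp hq =>
    (M.indep_left hQn p p' hp q).trans (M.swap.indep_left hPm q q' hq p')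
  have hcov : ∀ (T : C) p q, ∃ R ∈ J T, ∀ ⦃T' : C⦄ (k : T' ⟶ T), R k →
      ∃ p' q', n • p' = P.obj.map k.op p ∧ m • q' = Q.obj.map k.op q := fun T p q => by
    obtain ⟨R, hR, hl⟩ := exists_local_zsmul hPn T p
    obtain ⟨R', hR', hl'⟩ := exists_local_zsmul hQm T q
    refine ⟨_, J.intersection_covering hR hR', fun T' k hk => ?_⟩
    obtain ⟨p', hp'⟩ := hl k hk.1
    obtain ⟨q', hq'⟩ := hl' k hk.2
    exact ⟨p', q', hp', hq'⟩
  choose Rc hRc hl using hcov
  have hσ : ∀ (T : C) p q, ∃ x : B.E.obj.obj (op T), ∀ ⦃T' : C⦄ (k : T' ⟶ T) p' q',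
      n • p' = P.obj.map k.op p → m • q' = Q.obj.map k.op q → B.E.obj.map k.op x = M.τ T' p' q' := by
    intro T p q
    obtain ⟨x, hx⟩ := exists_glue B.E (hRc T p q)
      (fun T' k x => ∃ p' q', n • p' = P.obj.map k.op p ∧ m • q' = Q.obj.map k.op q ∧ x = M.τ T' p' q')
      (fun T' T'' k l x _ ⟨p', q', h1, h2, h3⟩ => ⟨P.obj.map l.op p', Q.obj.map l.op q',
        by rw [← map_zsmul, h1, ab_map_map_apply], by rw [← map_zsmul, h2, ab_map_map_apply],
        by rw [h3, M.τ_map]⟩)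
      (fun T' k x y _ ⟨p', q', h1, h2, h3⟩ ⟨p'', q'', h1', h2', h3'⟩ =>
        h3.trans ((indep T' p' p'' q' q'' (h1.trans h1'.symm) (h2.trans h2'.symm)).trans h3'.symm))
      (fun T' k hk => by
        obtain ⟨p', q', h1, h2⟩ := hl T p q k hk
        exact ⟨_, p', q', h1, h2, rfl⟩)
    refine ⟨x, fun T' k p' q' h1 h2 => ext_local B.E (J.pullback_stable k (hRc T p q)) _ _ fun Z l hl' => ?_⟩
    obtain ⟨a, b, e1, e2, e3⟩ := hx (l ≫ k) hl'
    rw [map_map_apply, M.τ_map, e3]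
    exact indep Z _ _ _ _ (by rw [e1, ← map_zsmul, h1, ab_map_map_apply])
      (by rw [e2, ← map_zsmul, h2, ab_map_map_apply])
  choose σ hσ using hσ
  refine ⟨{ σ := σ, πP_σ := fun T p q => ?_, πQ_σ := fun T p q => ?_,
            σ_map := fun {T T'} f p q => ?_, σ_add₁ := fun T p p' q => ?_, σ_add₂ := fun T p q q' => ?_ }⟩
  · refine ab_ext_local P (hRc T p q) _ _ fun T' k hk => ?_
    obtain ⟨a, b, e1, e2⟩ := hl T p q k hk
    rw [← B.πP_map, hσ T p q k a b e1 e2, M.πP_τ, e1]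
  · refine ab_ext_local Q (hRc T p q) _ _ fun T' k hk => ?_
    obtain ⟨a, b, e1, e2⟩ := hl T p q k hk
    rw [← B.πQ_map, hσ T p q k a b e1 e2, M.πQ_τ, e2]
  · refine ext_local B.E (hRc _ (P.obj.map f.op p) (Q.obj.map f.op q)) _ _ fun Z k hk => ?_
    obtain ⟨a, b, e1, e2⟩ := hl _ _ _ k hk
    rw [map_map_apply, hσ _ _ _ k a b e1 e2,
      hσ T p q (k ≫ f) a b (by rw [e1, ab_map_map_apply]) (by rw [e2, ab_map_map_apply])]
  · refine ext_local B.E (J.intersection_covering (hRc T p q) (hRc T p' q)) _ _ fun Z k hk => ?_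
    obtain ⟨a, b, e1, e2⟩ := hl T p q k hk.1
    obtain ⟨a', b', e1', e2'⟩ := hl T p' q k hk.2
    rw [hσ T (p + p') q k (a + a') b (by rw [zsmul_add, e1, e1', map_add]) e2, M.τ_add₁, B.add₁_map]
    exact add₂_congr (Groth.Agent.BiextTriv.swap B) (hσ T p q k a b e1 e2).symm
      (hσ T p' q k a' b e1' e2).symm _
  · refine ext_local B.E (J.intersection_covering (hRc T p q) (hRc T p q')) _ _ fun Z k hk => ?_
    obtain ⟨a, b, e1, e2⟩ := hl T p q k hk.1
    obtain ⟨a', b', e1', e2'⟩ := hl T p q' k hk.2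
    rw [hσ T p (q + q') k a (b + b') e1 (by rw [zsmul_add, e2, e2', map_add]), M.τ_add₂, B.add₂_map]
    exact add₂_congr B (hσ T p q k a b e1 e2).symm (hσ T p q' k a b' e1 e2').symm _

theorem isTrivial_of_pullback_zsmul [HasSheafify J AddCommGrpCat.{u + 1}]
    [J.WEqualsLocallyBijective AddCommGrpCat.{u + 1}] (hPn : Epi (n • 𝟙 P)) (hPm : Epi (m • 𝟙 P))
    (hQn : Epi (n • 𝟙 Q)) (hQm : Epi (m • 𝟙 Q)) {B' : Biext J P Q G}
    (φ : Biext.HomOver J (n • 𝟙 P) (m • 𝟙 Q) (𝟙 G) B' B) (h : Biext.IsTrivial J B') : Biext.IsTrivial J B := by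
  obtain ⟨s⟩ := h
  refine Mult.isTrivial (B := B) (n := n) (m := m)
    { τ := fun T p q => φ.map T (s.σ T p q)
      πP_τ := fun T p q => (φ.πP_map T _).trans ((congr_arg _ (s.πP_σ T p q)).trans (zsmul_app P n T p))
      πQ_τ := fun T p q => (φ.πQ_map T _).trans ((congr_arg _ (s.πQ_σ T p q)).trans (zsmul_app Q m T q))
      τ_map := fun {T T'} f p q => (φ.map_res f _).symm.trans (congr_arg (φ.map T') (s.σ_map f p q))
      τ_add₁ := fun T p p' q => (congr_arg (φ.map T) (s.σ_add₁ T p p' q)).trans (φ.map_add₁ T _ _ _)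
      τ_add₂ := fun T p q q' => (congr_arg (φ.map T) (s.σ_add₂ T p q q')).trans (φ.map_add₂ T _ _ _) }
    hPn hPm hQn hQm

end Groth.Agent.BiextTriv
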