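import Groth.Agent.BiextTriv.Inj
import Groth.Prelude.Def_CGrpSh2
import Mathlib.CategoryTheory.Abelian.RightDerived

/-!
The connecting map `Hom(Q, K) ⟶ Ext¹(Q, G)` of sheaves for an injective embedding of `G`.
-/

set_option autoImplicit false
set_option backward.isDefEq.respectTransparency false
set_option backward.isDefEq.respectTransparency.types false

universe u

open CategoryTheory Category Limits Opposite

namespace Groth.Agent.BiextTriv

variable {C : Type (u + 1)} [Category.{u} C] (J : GrothendieckTopology C)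
  [HasSheafify J AddCommGrpCat.{u + 1}] [J.WEqualsLocallyBijective AddCommGrpCat.{u + 1}]
  [HasInjectiveResolutions (Sheaf J AddCommGrpCat.{u + 1})]

omit [HasSheafify J AddCommGrpCat.{u + 1}] [J.WEqualsLocallyBijective AddCommGrpCat.{u + 1}]
  [HasInjectiveResolutions (Sheaf J AddCommGrpCat.{u + 1})] in
lemma homShMap_injective (Q : Sheaf J AddCommGrpCat.{u + 1}) {K K' : Sheaf J AddCommGrpCat.{u + 1}} (j : K ⟶ K')
    [Mono j] (T : C) : Function.Injective (((HomSh.homShFunctor J Q).map j).hom.app (op T)) := by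
  intro φ ψ h
  refine Sheaf.hom_ext (NatTrans.ext (funext fun U => AddCommGrpCat.ext fun x => ?_))
  have h1 := congr_arg (fun χ : Q.over T ⟶ K'.over T => χ.hom.app U x) h
  exact sect_injective J j (unop U).left h1

/-- The connecting map for an injective embedding of `G`, exact locally on sections. -/
theorem exists_delta (Q G : Sheaf J AddCommGrpCat.{u + 1}) :
    ∃ (I K : Sheaf J AddCommGrpCat.{u + 1}) (ι : G ⟶ I) (π : I ⟶ K) (w : ι ≫ π = 0)
      (δ : HomSh.homSh J Q K ⟶ (HomSh.extSh J Q 1).obj G), Injective I ∧ Mono ι ∧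
      Nonempty (IsLimit (KernelFork.ofι ι w)) ∧
      (HomSh.homShFunctor J Q).map π ≫ δ = 0 ∧
      ∀ (T : C) (x : (HomSh.homSh J Q K).obj.obj (op T)), δ.hom.app (op T) x = 0 →
        ∃ R ∈ J T, ∀ ⦃T' : C⦄ (f : T' ⟶ T), R f → ∃ θ : (HomSh.homSh J Q I).obj.obj (op T'),
          ((HomSh.homShFunctor J Q).map π).hom.app (op T') θ = (HomSh.homSh J Q K).obj.map f.op x := by
  let P := injectiveResolution G
  let F := HomSh.homShFunctor J Q
  let X := P.cocomplex
  let K := kernel (X.d 1 2)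
  let j : K ⟶ X.X 1 := kernel.ι _
  let π : X.X 0 ⟶ K := kernel.lift _ (X.d 0 1) (X.d_comp_d 0 1 2)
  let ι : G ⟶ X.X 0 := P.ι.f 0
  have hd : ι ≫ X.d 0 1 = 0 := P.ι_f_zero_comp_complex_d
  have hπ : π ≫ j = X.d 0 1 := kernel.lift_ι _ _ _
  have w : ι ≫ π = 0 := by rw [← cancel_mono j, assoc, hπ, hd, zero_comp]
  let Y := (F.mapHomologicalComplex _).obj X
  have hj : F.map j ≫ Y.d 1 2 = 0 := by
    change F.map j ≫ F.map (X.d 1 2) = 0
    rw [← F.map_comp, kernel.condition, F.map_zero]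
  let z : F.obj K ⟶ Y.cycles 1 := Y.liftCycles (F.map j) 2 (by simp) hj
  have hz : z ≫ Y.iCycles 1 = F.map j := Y.liftCycles_i _ _ _ _
  have hexact : (ShortComplex.mk (Y.toCycles 0 1) (Y.homologyπ 1) (Y.toCycles_comp_homologyπ 0 1)).Exact :=
    ShortComplex.exact_of_g_is_cokernel _ (Y.homologyIsCokernel 0 1 (by simp))
  let e : (HomSh.extSh J Q 1).obj G ≅ Y.homology 1 :=
    eqToIso (by rw [HomSh.extSh_def]) ≪≫ P.isoRightDerivedObj F 1
  have hπz : F.map π ≫ z = Y.toCycles 0 1 := by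
    rw [← cancel_mono (Y.iCycles 1), assoc, hz, HomologicalComplex.toCycles_i, ← F.map_comp, hπ]
    rfl
  refine ⟨X.X 0, K, ι, π, w, z ≫ Y.homologyπ 1 ≫ e.inv, P.injective 0, inferInstanceAs (Mono (P.ι.f 0)), ⟨?_⟩, ?_, ?_⟩
  · exact KernelFork.IsLimit.ofι _ _ (fun g hg => P.isLimitKernelFork.lift (KernelFork.ofι g (by
        change g ≫ X.d 0 1 = 0
        rw [← hπ, ← assoc, hg, zero_comp])))
      (fun g hg => P.isLimitKernelFork.fac _ WalkingParallelPair.zero)
      (fun g hg m hm => Fork.IsLimit.hom_ext P.isLimitKernelFork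
        (hm.trans (P.isLimitKernelFork.fac (KernelFork.ofι g _) WalkingParallelPair.zero).symm))
  · rw [← assoc, hπz, ← assoc, Y.toCycles_comp_homologyπ, zero_comp]
  intro T x hx
  have hx' : (Y.homologyπ 1).hom.app (op T) (z.hom.app (op T) x) = 0 := by
    refine sect_injective J e.inv T ?_
    rw [map_zero]
    exact hx
  obtain ⟨R, hR, hl⟩ := exists_local_lift J hexact T _ hx'
  refine ⟨R, hR, fun T' f hf => ?_⟩
  obtain ⟨θ, hθ⟩ := hl f hf
  refine ⟨θ, homShMap_injective J Q j T' ?_⟩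
  have h1 : ∀ y : (F.obj (X.X 0)).obj.obj (op T'), (F.map j).hom.app (op T') ((F.map π).hom.app (op T') y) =
      (Y.iCycles 1).hom.app (op T') ((Y.toCycles 0 1).hom.app (op T') y) := fun y => by
    rw [← hπz, ← hz]
    rfl
  refine (h1 θ).trans ?_
  refine (congr_arg ((Y.iCycles 1).hom.app (op T')) hθ).trans ?_
  refine (congr_arg ((Y.iCycles 1).hom.app (op T')) (NatTrans.naturality_apply z.hom f.op x).symm).trans ?_
  exact congr_arg (fun φ : F.obj K ⟶ Y.X 1 => φ.hom.app (op T') ((F.obj K).obj.map f.op x)) hz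

end Groth.Agent.BiextTriv
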