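import Groth.Agent.BiextTriv.Glue

/-!
The extension attached to a section `p` of `P`, its extensions into an injective, and local additive lifts.
-/

set_option autoImplicit false
set_option backward.isDefEq.respectTransparency false
set_option backward.isDefEq.respectTransparency.types false

universe u

open CategoryTheory Category Limits Opposite

namespace Groth.Agent.BiextTriv

variable {C : Type (u + 1)} [Category.{u} C] {J : GrothendieckTopology C}
variable {P Q G : Sheaf J AddCommGrpCat.{u + 1}} (B : Biext J P Q G)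

/-- Restriction of `p` to an object over `T`. -/
abbrev pres {T : C} (p : P.obj.obj (op T)) (U : Over T) : P.obj.obj (op U.left) := P.obj.map U.hom.op p

lemma pres_map {T : C}
    (p : P.obj.obj (op T)) {U U' : Over T} (g : U' ⟶ U) : P.obj.map g.left.op (pres p U) = pres p U' := by
  rw [ab_map_map_apply, Over.w g]

/-- Sections above `p` over an object over `T`. -/
def Fib {T : C} (p : P.obj.obj (op T)) (U : Over T) : Type (u + 1) :=
  {e : B.E.obj.obj (op U.left) // B.πP U.left e = pres p U}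

/-- A section above `p` as an element of the fibre. -/
def fmk {T : C} {p : P.obj.obj (op T)} {U : Over T} (e : B.E.obj.obj (op U.left)) (he : B.πP U.left e = pres p U) :
    Fib B p U := ⟨e, he⟩

variable {B}

noncomputable instance instAddCommGroupFib {T : C} (p : P.obj.obj (op T)) (U : Over T) :
    AddCommGroup (Fib B p U) := by
  letI : Add (Fib B p U) :=
    ⟨fun x y => ⟨B.add₂ _ x.1 y.1 (x.2.trans y.2.symm), (B.πP_add₂ _ _ _ _).trans x.2⟩⟩
  letI : Zero (Fib B p U) := ⟨⟨z₂ B _ (pres p U), πP_z₂ B _ _⟩⟩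
  letI : Neg (Fib B p U) := ⟨fun x => ⟨neg₂ B x.1, (πP_neg₂ B x.1).symm.trans x.2⟩⟩
  have hz : ∀ x : Fib B p U, 0 + x = x := fun x => Subtype.ext (z₂_add₂ B x.1 x.2)
  have hc : ∀ x y : Fib B p U, x + y = y + x := fun x y => Subtype.ext (B.add₂_comm _ _ _ _)
  exact
    { nsmul := nsmulRec
      zsmul := zsmulRec
      add_assoc := fun x y z => Subtype.ext (B.add₂_assoc _ _ _ _ _ _)
      zero_add := hz
      add_zero := fun x => (hc x 0).trans (hz x)
      add_comm := hc
      neg_add_cancel := fun x => (hc _ _).trans (Subtype.ext ((add₂_neg₂ B x.1).trans (by rw [x.2]; rfl))) }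

lemma Fib.add_val {T : C} {p : P.obj.obj (op T)} {U : Over T} (x y : Fib B p U) :
    (x + y).1 = B.add₂ _ x.1 y.1 (x.2.trans y.2.symm) := rfl

lemma Fib.zero_val {T : C} {p : P.obj.obj (op T)} {U : Over T} :
    (0 : Fib B p U).1 = z₂ B _ (pres p U) := rfl

variable (B)

/-- The presheaf of groups of sections above `p`. -/
noncomputable def fibPsh {T : C} (p : P.obj.obj (op T)) : (Over T)ᵒᵖ ⥤ AddCommGrpCat.{u + 1} where
  obj U := AddCommGrpCat.of (Fib B p U.unop)
  map {U U'} g := AddCommGrpCat.ofHom (AddMonoidHom.mk'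
    (fun x : Fib B p U.unop => (⟨B.E.obj.map g.unop.left.op x.1, by
      rw [B.πP_map, x.2, pres_map]⟩ : Fib B p U'.unop))
    (fun x y => Subtype.ext (B.add₂_map g.unop.left x.1 y.1 (x.2.trans y.2.symm))))
  map_id U := AddCommGrpCat.ext fun x => Subtype.ext (map_id_apply B.E x.1)
  map_comp g h := AddCommGrpCat.ext fun x => Subtype.ext
    (map_map_apply B.E g.unop.left h.unop.left x.1).symm

lemma act_add₂ {T : C} (g g' : G.obj.obj (op T)) (x y : B.E.obj.obj (op T)) (h : B.πP T x = B.πP T y) :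
    B.add₂ T (B.act T g x) (B.act T g' y) ((B.πP_act T g x).trans (h.trans (B.πP_act T g' y).symm)) =
      B.act T (g + g') (B.add₂ T x y h) := by
  rw [B.add₂_act T g x (B.act T g' y) (h.trans (B.πP_act T g' y).symm), add₂_act_right B g' x y h, ← B.add_act]

/-- The inclusion of `G` in the sections above `p`. -/
noncomputable def toFib {T : C} (p : P.obj.obj (op T)) : (G.over T).obj ⟶ fibPsh B p where
  app U := AddCommGrpCat.ofHom (AddMonoidHom.mk'
    (fun g : G.obj.obj (op U.unop.left) => (⟨B.act _ g (z₂ B _ (pres p U.unop)),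
      (B.πP_act _ _ _).trans (πP_z₂ B _ _)⟩ : Fib B p U.unop))
    (fun g g' => Subtype.ext
      ((act_add₂ B (T := U.unop.left) g g' _ _ rfl).trans (congr_arg _ (z₂_spec B _ _).2.2)).symm))
  naturality U U' g := AddCommGrpCat.ext fun s => Subtype.ext (by
    change B.act _ (G.obj.map g.unop.left.op s) (z₂ B _ (pres p U'.unop)) =
      B.E.obj.map g.unop.left.op (B.act _ s (z₂ B _ (pres p U.unop)))
    rw [B.act_map, z₂_map, pres_map])

instance mono_toFib {T : C} (p : P.obj.obj (op T)) : Mono (toFib B p) := by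
  have : ∀ U, Mono ((toFib B p).app U) := fun U => (AddCommGrpCat.mono_iff_injective _).mpr fun a b h =>
    act_free B (congr_arg Subtype.val h)
  exact NatTrans.mono_of_mono_app _

variable {I K : Sheaf J AddCommGrpCat.{u + 1}} (ι : G ⟶ I) (π : I ⟶ K)

/-- An additive extension of `ι` to the sections above `p`. -/
structure Psi {T : C} (p : P.obj.obj (op T)) : Type (u + 1) where
  /-- the map -/
  ψ : ∀ (U : Over T) (e : B.E.obj.obj (op U.left)), B.πP U.left e = pres p U → I.obj.obj (op U.left)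
  ψ_map : ∀ (U U' : Over T) (g : U' ⟶ U) e (he : B.πP U.left e = pres p U),
    ψ U' (B.E.obj.map g.left.op e) (by rw [B.πP_map, he, pres_map]) = I.obj.map g.left.op (ψ U e he)
  ψ_add : ∀ (U : Over T) e e' (he : B.πP U.left e = pres p U) (he' : B.πP U.left e' = pres p U),
    ψ U (B.add₂ _ e e' (he.trans he'.symm)) ((B.πP_add₂ _ _ _ _).trans he) = ψ U e he + ψ U e' he'
  ψ_act : ∀ (U : Over T) s e (he : B.πP U.left e = pres p U),
    ψ U (B.act _ s e) ((B.πP_act _ _ _).trans he) = ι.hom.app (op U.left) s + ψ U e he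

variable {B ι π}

lemma Psi.congr {T : C} {p : P.obj.obj (op T)} (Ψ : Psi B ι p) (U : Over T) {e e' : B.E.obj.obj (op U.left)}
    (h : e = e') (he : B.πP U.left e = pres p U) : Ψ.ψ U e he = Ψ.ψ U e' (h ▸ he) := by
  subst h; rfl

lemma exists_psi [Injective I] [HasSheafify J AddCommGrpCat.{u + 1}] {T : C} (p : P.obj.obj (op T)) :
    Nonempty (Psi B ι p) := by
  have : Injective I.obj := Injective.injective_of_adjoint (sheafificationAdjunction J AddCommGrpCat.{u + 1}) I
  have : Injective (I.over T).obj := injective_restrict_presheaf T I.obj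
  let φ : fibPsh B p ⟶ (I.over T).obj :=
    Injective.factorThru ((J.overPullback _ T).map ι).hom (toFib B p)
  have hφ : ∀ (U : Over T) (s : G.obj.obj (op U.left)), φ.app (op U) ((toFib B p).app (op U) s) =
      ι.hom.app (op U.left) s := fun U s =>
    ConcreteCategory.congr_hom (NatTrans.congr_app
      (Injective.comp_factorThru ((J.overPullback _ T).map ι).hom (toFib B p)) (op U)) s
  refine ⟨{ ψ := fun U e he => φ.app (op U) (fmk B e he)
            ψ_map := fun U U' g e he => NatTrans.naturality_apply φ g.op (fmk B e he)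
            ψ_add := fun U e e' he he' => map_add (φ.app (op U)).hom (fmk B e he) (fmk B e' he')
            ψ_act := fun U s e he => ?_ }⟩
  have h1 : fmk B (p := p) (U := U) (B.act _ s e) ((B.πP_act _ _ _).trans he) =
      fmk B (B.act _ s (z₂ B _ (pres p U))) ((B.πP_act _ _ _).trans (πP_z₂ B _ _)) + fmk B e he := Subtype.ext (by
    rw [Fib.add_val]
    exact (B.add₂_act _ s (z₂ B _ (pres p U)) e ((πP_z₂ B _ _).trans he.symm)).trans
      (congr_arg _ (z₂_add₂ B e he)) |>.symm)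
  refine (congr_arg (φ.app (op U)) h1).trans ?_
  exact (map_add (φ.app (op U)).hom _ _).trans (congr_arg (· + _) (hφ U s))

/-- Two lifts of the same section of `P × Q` differ by the action. -/
lemma exists_act {T : C} (x y : B.E.obj.obj (op T)) (hP : B.πP T x = B.πP T y) (hQ : B.πQ T x = B.πQ T y) :
    ∃ g, y = B.act T g x := by
  obtain ⟨g, hg, -⟩ := B.existsUnique_act T x y hP hQ
  exact ⟨g, hg.symm⟩

variable (B ι π) in
/-- `χ` is the homomorphism induced by some extension of `ι` above `p`. -/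
def Rel {T : C} (p : P.obj.obj (op T)) (χ : Q.over T ⟶ K.over T) : Prop :=
  ∃ Ψ : Psi B ι p, ∀ (U : Over T) e (he : B.πP U.left e = pres p U),
    χ.hom.app (op U) (B.πQ U.left e) = π.hom.app (op U.left) (Ψ.ψ U e he)

lemma exists_rel [Injective I] [HasSheafify J AddCommGrpCat.{u + 1}] (w : ι ≫ π = 0) {T : C}
    (p : P.obj.obj (op T)) : ∃ χ, Rel B ι π p χ := by
  obtain ⟨Ψ⟩ := exists_psi (B := B) (ι := ι) p
  obtain ⟨χ, hχ⟩ := exists_hom Q K T
    (fun U q y => ∃ e, ∃ he : B.πP U.left e = pres p U, B.πQ U.left e = q ∧ y = π.hom.app (op U.left) (Ψ.ψ U e he))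
    (fun U U' g q y ⟨e, he, hq, hy⟩ => ⟨B.E.obj.map g.left.op e, by rw [B.πP_map, he, pres_map],
      by rw [B.πQ_map, hq], by rw [Ψ.ψ_map U U' g e he, hy, NatTrans.naturality_apply]⟩)
    (fun U q y y' ⟨e, he, hq, hy⟩ ⟨e', he', hq', hy'⟩ => by
      obtain ⟨g, rfl⟩ := exists_act e e' (he.trans he'.symm) (hq.trans hq'.symm)
      have hw : π.hom.app (op U.left) (ι.hom.app (op U.left) g) = 0 :=
        congr_arg (fun φ : G ⟶ K => φ.hom.app (op U.left) g) w
      rw [hy, hy', Ψ.ψ_act U g e he, map_add, hw, zero_add])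
    (fun U q q' y y' ⟨e, he, hq, hy⟩ ⟨e', he', hq', hy'⟩ => ⟨B.add₂ _ e e' (he.trans he'.symm),
      (B.πP_add₂ _ _ _ _).trans he, by rw [B.πQ_add₂, hq, hq'], by rw [Ψ.ψ_add U e e' he he', map_add, hy, hy']⟩)
    (fun U q => by
      obtain ⟨R, hR, hl⟩ := B.locallySurjective U.left (pres p U) q
      refine ⟨R, hR, fun T' f hf => ?_⟩
      obtain ⟨e, heP, heQ⟩ := hl f hf
      refine ⟨_, e, ?_, heQ, rfl⟩
      exact heP.trans (ab_map_map_apply P U.hom f p))
  exact ⟨χ, Ψ, fun U e he => hχ U _ _ ⟨e, he, rfl, rfl⟩⟩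

lemma Rel.res {T T' : C} {p : P.obj.obj (op T)} {χ : Q.over T ⟶ K.over T} (h : Rel B ι π p χ) (f : T' ⟶ T) :
    Rel B ι π (P.obj.map f.op p) ((HomSh.homSh J Q K).obj.map f.op χ) := by
  obtain ⟨Ψ, hΨ⟩ := h
  have hp : ∀ V : Over T', pres (P.obj.map f.op p) V = pres p (Over.mk (V.hom ≫ f)) := fun V =>
    ab_map_map_apply P f V.hom p
  refine ⟨{ ψ := fun V e he => Ψ.ψ (Over.mk (V.hom ≫ f)) e (he.trans (hp V))
            ψ_map := fun V V' g e he => Ψ.ψ_map (Over.mk (V.hom ≫ f)) (Over.mk (V'.hom ≫ f))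
              (Over.homMk g.left (show g.left ≫ V.hom ≫ f = V'.hom ≫ f by rw [← assoc, Over.w g])) e (he.trans (hp V))
            ψ_add := fun V e e' he he' => Ψ.ψ_add (Over.mk (V.hom ≫ f)) e e' (he.trans (hp V)) (he'.trans (hp V))
            ψ_act := fun V s e he => Ψ.ψ_act (Over.mk (V.hom ≫ f)) s e (he.trans (hp V)) }, fun V e he => ?_⟩
  exact hΨ (Over.mk (V.hom ≫ f)) e (he.trans (hp V))

lemma Rel.add {T : C} {p p' : P.obj.obj (op T)} {χ χ' χ'' : Q.over T ⟶ K.over T} (h : Rel B ι π p χ)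
    (h' : Rel B ι π p' χ') (h'' : Rel B ι π (p + p') χ'') :
    ∃ θ : (HomSh.homSh J Q I).obj.obj (op T),
      ((HomSh.homShFunctor J Q).map π).hom.app (op T) θ = χ'' - χ - χ' := by
  obtain ⟨Ψ, hΨ⟩ := h
  obtain ⟨Ψ', hΨ'⟩ := h'
  obtain ⟨Ψ'', hΨ''⟩ := h''
  have hpp : ∀ (U : Over T) (e e' : B.E.obj.obj (op U.left)) (he : B.πP U.left e = pres p U)
      (he' : B.πP U.left e' = pres p' U) (hq : B.πQ U.left e = B.πQ U.left e'),
      B.πP U.left (B.add₁ _ e e' hq) = pres (p + p') U := fun U e e' he he' hq => by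
    rw [B.πP_add₁, he, he']; exact (map_add (P.obj.map U.hom.op).hom p p').symm
  let Rv : ∀ U : Over T, Q.obj.obj (op U.left) → I.obj.obj (op U.left) → Prop := fun U q y =>
    ∃ (e e' : B.E.obj.obj (op U.left)) (he : B.πP U.left e = pres p U) (he' : B.πP U.left e' = pres p' U)
      (hq : B.πQ U.left e = B.πQ U.left e'), B.πQ U.left e = q ∧
      y = Ψ''.ψ U (B.add₁ _ e e' hq) (hpp U e e' he he' hq) - Ψ.ψ U e he - Ψ'.ψ U e' he'
  obtain ⟨θ, hθ⟩ := exists_hom Q I T Rv
    (fun U U' g q y ⟨e, e', he, he', hq, hqe, hy⟩ => by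
      refine ⟨B.E.obj.map g.left.op e, B.E.obj.map g.left.op e', by rw [B.πP_map, he, pres_map],
        by rw [B.πP_map, he', pres_map], by rw [B.πQ_map, B.πQ_map, hq], by rw [B.πQ_map, hqe], ?_⟩
      rw [Ψ''.congr U' (B.add₁_map g.left e e' hq).symm, Ψ''.ψ_map U U' g _ (hpp U e e' he he' hq),
        Ψ.ψ_map U U' g e he, Ψ'.ψ_map U U' g e' he', hy, map_sub, map_sub])
    (fun U q y y' ⟨e, e', he, he', hq, hqe, hy⟩ ⟨d, d', hd, hd', hdq, hqd, hy'⟩ => by
      obtain ⟨g, rfl⟩ := exists_act e d (he.trans hd.symm) (hqe.trans hqd.symm)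
      obtain ⟨g', rfl⟩ := exists_act e' d' (he'.trans hd'.symm) (hq.symm.trans ((hqe.trans hqd.symm).trans hdq))
      have hadd : B.add₁ _ (B.act _ g e) (B.act _ g' e') hdq = B.act _ (g + g') (B.add₁ _ e e' hq) :=
        act_add₂ (swap B) g g' e e' hq
      rw [hy, hy', Ψ''.congr U hadd, Ψ''.ψ_act U _ _ (hpp U e e' he he' hq), Ψ.ψ_act U g e he,
        Ψ'.ψ_act U g' e' he', map_add]
      abel)
    (fun U q q₂ y y₂ ⟨e, e', he, he', hq, hqe, hy⟩ ⟨d, d', hd, hd', hdq, hqd, hy'⟩ => by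
      refine ⟨B.add₂ _ e d (he.trans hd.symm), B.add₂ _ e' d' (he'.trans hd'.symm), (B.πP_add₂ _ _ _ _).trans he,
        (B.πP_add₂ _ _ _ _).trans he', by rw [B.πQ_add₂, B.πQ_add₂, hq, hdq], by rw [B.πQ_add₂, hqe, hqd], ?_⟩
      rw [Ψ''.congr U (B.compat _ e d e' d' (he.trans hd.symm) (he'.trans hd'.symm) hq hdq),
        Ψ''.ψ_add U _ _ (hpp U e e' he he' hq) (hpp U d d' hd hd' hdq), Ψ.ψ_add U e d he hd,
        Ψ'.ψ_add U e' d' he' hd', hy, hy']
      abel)
    (fun U q => by
      obtain ⟨R, hR, hl⟩ := B.locallySurjective U.left (pres p U) q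
      obtain ⟨R', hR', hl'⟩ := B.locallySurjective U.left (pres p' U) q
      refine ⟨R ⊓ R', J.intersection_covering hR hR', fun T' f hf => ?_⟩
      obtain ⟨e, heP, heQ⟩ := hl f hf.1
      obtain ⟨e', heP', heQ'⟩ := hl' f hf.2
      exact ⟨_, e, e', heP.trans (ab_map_map_apply P U.hom f p), heP'.trans (ab_map_map_apply P U.hom f p'),
        heQ.trans heQ'.symm, heQ, rfl⟩)
  refine ⟨θ, Sheaf.hom_ext (NatTrans.ext (funext fun U => AddCommGrpCat.ext fun q => ?_))⟩
  change π.hom.app (op U.unop.left) (θ.hom.app U q) = χ''.hom.app U q - χ.hom.app U q - χ'.hom.app U q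
  obtain ⟨R, hR, hl⟩ := B.locallySurjective U.unop.left (pres p U.unop) q
  obtain ⟨R', hR', hl'⟩ := B.locallySurjective U.unop.left (pres p' U.unop) q
  refine ab_ext_local K (J.intersection_covering hR hR') _ _ fun T' f hf => ?_
  obtain ⟨e, heP, heQ⟩ := hl f hf.1
  obtain ⟨e', heP', heQ'⟩ := hl' f hf.2
  let V : Over T := Over.mk (f ≫ U.unop.hom)
  let gV : V ⟶ U.unop := Over.homMk f rfl
  have he : B.πP V.left e = pres p V := heP.trans (ab_map_map_apply P U.unop.hom f p)
  have he' : B.πP V.left e' = pres p' V := heP'.trans (ab_map_map_apply P U.unop.hom f p')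
  have hq : B.πQ V.left e = B.πQ V.left e' := heQ.trans heQ'.symm
  have nat : ∀ {X : Sheaf J AddCommGrpCat.{u + 1}} (φ : Q.over T ⟶ X.over T),
      X.obj.map f.op (φ.hom.app U q) = φ.hom.app (op V) (B.πQ V.left e) := fun {X} φ =>
    (NatTrans.naturality_apply φ.hom gV.op q).symm.trans (congr_arg (φ.hom.app (op V)) heQ.symm)
  rw [← NatTrans.naturality_apply π.hom f.op, map_sub, map_sub, nat θ, nat χ'', nat χ, nat χ',
    hθ V _ _ ⟨e, e', he, he', hq, rfl, rfl⟩, map_sub, map_sub]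
  refine congr_arg₂ (· - ·) (congr_arg₂ (· - ·) ((hΨ'' V _ (hpp V e e' he he' hq)).symm.trans ?_)
    (hΨ V e he).symm) ((hΨ' V e' he').symm.trans ?_)
  · exact congr_arg (χ''.hom.app (op V)) (B.πQ_add₁ _ e e' hq)
  · exact congr_arg (χ'.hom.app (op V)) hq.symm

variable (B) in
/-- An additive family of sections above `p`. -/
@[ext]
structure Sec {T : C} (p : P.obj.obj (op T)) : Type (u + 1) where
  /-- the section above `(p, q)` -/
  s : ∀ U : Over T, Q.obj.obj (op U.left) → B.E.obj.obj (op U.left)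
  πP_s : ∀ U q, B.πP U.left (s U q) = pres p U
  πQ_s : ∀ U q, B.πQ U.left (s U q) = q
  s_map : ∀ (U U' : Over T) (g : U' ⟶ U) q, B.E.obj.map g.left.op (s U q) = s U' (Q.obj.map g.left.op q)
  s_add : ∀ (U : Over T) q q',
    s U (q + q') = B.add₂ _ (s U q) (s U q') ((πP_s U q).trans (πP_s U q').symm)

/-- An additive family of sections above `p` from a lift of `χ`. -/
lemma exists_sec [Mono ι] {w : ι ≫ π = 0} (hK : IsLimit (KernelFork.ofι ι w)) {T : C} {p : P.obj.obj (op T)}
    {χ : Q.over T ⟶ K.over T} (h : Rel B ι π p χ) (θ : (HomSh.homSh J Q I).obj.obj (op T))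
    (hθ : ((HomSh.homShFunctor J Q).map π).hom.app (op T) θ = χ) : Nonempty (Sec B p) := by
  obtain ⟨Ψ, hΨ⟩ := h
  let Ok : ∀ U : Over T, Q.obj.obj (op U.left) → B.E.obj.obj (op U.left) → Prop := fun U q e =>
    ∃ he : B.πP U.left e = pres p U, B.πQ U.left e = q ∧ Ψ.ψ U e he = θ.hom.app (op U) q
  have hu : ∀ U q e e', Ok U q e → Ok U q e' → e = e' := by
    intro U q e e' ⟨he, hq, h1⟩ ⟨he', hq', h2⟩
    obtain ⟨g, rfl⟩ := exists_act e e' (he.trans he'.symm) (hq.trans hq'.symm)
    rw [Ψ.ψ_act U g e he, h1] at h2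
    have hg : g = 0 := sect_injective J ι U.left ((add_eq_right.mp h2).trans (map_zero _).symm)
    rw [hg, B.zero_act]
  have hres : ∀ (U U' : Over T) (g : U' ⟶ U) q e, Ok U q e →
      Ok U' (Q.obj.map g.left.op q) (B.E.obj.map g.left.op e) := by
    intro U U' g q e ⟨he, hq, h1⟩
    refine ⟨by rw [B.πP_map, he, pres_map], by rw [B.πQ_map, hq], ?_⟩
    rw [Ψ.ψ_map U U' g e he, h1]
    exact (NatTrans.naturality_apply θ.hom g.op q).symm
  have hex : ∀ U q, ∃ e, Ok U q e := by
    intro U q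
    obtain ⟨R, hR, hl⟩ := B.locallySurjective U.left (pres p U) q
    obtain ⟨x, hx⟩ := exists_glue B.E hR
      (fun T' f e => Ok (Over.mk (f ≫ U.hom)) (Q.obj.map f.op q) e)
      (fun T' T'' f g e _ he => by
        have h1 := hres _ (Over.mk ((g ≫ f) ≫ U.hom))
          (Over.homMk g (assoc _ _ _).symm : Over.mk ((g ≫ f) ≫ U.hom) ⟶ Over.mk (f ≫ U.hom)) _ _ he
        rw [← ab_map_map_apply Q f g q]
        exact h1)
      (fun T' f e e' _ he he' => hu (Over.mk (f ≫ U.hom)) (Q.obj.map f.op q) e e' he he')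
      (fun T' f hf => by
        obtain ⟨e, heP, heQ⟩ := hl f hf
        let V : Over T := Over.mk (f ≫ U.hom)
        have he : B.πP V.left e = pres p V := heP.trans (ab_map_map_apply P U.hom f p)
        let tv : I.obj.obj (op V.left) := θ.hom.app (op V) (B.πQ V.left e)
        have hz : π.hom.app (op V.left) (Ψ.ψ V e he - tv) = 0 := by
          rw [map_sub, sub_eq_zero]
          exact (hΨ V e he).symm.trans
            (congr_arg (fun φ : Q.over T ⟶ K.over T => φ.hom.app (op V) (B.πQ V.left e)) hθ).symm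
        obtain ⟨r, hr⟩ := exists_of_fork J ι π w hK V.left _ hz
        refine ⟨B.act _ (-r) e, (B.πP_act _ _ _).trans he, (B.πQ_act T' (-r) e).trans heQ, ?_⟩
        refine (Ψ.ψ_act V (-r) e he).trans (Eq.trans (b := tv) ?_ (congr_arg (θ.hom.app (op V)) heQ))
        rw [map_neg, hr, neg_sub, sub_add_cancel])
    have hP : B.πP U.left x = pres p U := ab_ext_local P hR _ _ fun T' f hf => by
      exact ((B.πP_map f x).symm.trans (hx f hf).1).trans (ab_map_map_apply P U.hom f p).symm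
    refine ⟨x, hP, ab_ext_local Q hR _ _ fun T' f hf => ?_, ab_ext_local I hR _ _ fun T' f hf => ?_⟩
    · exact (B.πQ_map f x).symm.trans (hx f hf).2.1
    · let V : Over T := Over.mk (f ≫ U.hom)
      refine (Ψ.ψ_map U V (Over.homMk f rfl) x hP).symm.trans ((hx f hf).2.2.trans ?_)
      exact NatTrans.naturality_apply θ.hom (Over.homMk f rfl : V ⟶ U).op q
  choose s hs using hex
  refine ⟨{ s := s
            πP_s := fun U q => (hs U q).1
            πQ_s := fun U q => (hs U q).2.1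
            s_map := fun U U' g q => hu _ _ _ _ (hres U U' g q _ (hs U q)) (hs U' _)
            s_add := fun U q q' => hu _ _ _ _ (hs U _) ?_ }⟩
  refine ⟨(B.πP_add₂ _ _ _ _).trans (hs U q).1, by rw [B.πQ_add₂, (hs U q).2.1, (hs U q').2.1], ?_⟩
  rw [Ψ.ψ_add U _ _ (hs U q).1 (hs U q').1, (hs U q).2.2, (hs U q').2.2, map_add]

end Groth.Agent.BiextTriv
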