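import Groth.Agent.BiextTriv.Inj
import Groth.Prelude.Def_Biext
import Groth.Prelude.Def_CGrpSh2

/-!
Gluing on sheaves of sets, gluing homomorphisms, and the unit and inverse for the laws of a biextension.
-/

set_option autoImplicit false
set_option backward.isDefEq.respectTransparency false
set_option backward.isDefEq.respectTransparency.types false

universe u

open CategoryTheory Category Limits Opposite

namespace Groth.Agent.BiextTriv

variable {C : Type (u + 1)} [Category.{u} C] {J : GrothendieckTopology C}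

lemma map_map_apply (E : Sheaf J (Type (u + 1))) {T U V : C} (f : U ⟶ T) (g : V ⟶ U) (x : E.obj.obj (op T)) :
    E.obj.map g.op (E.obj.map f.op x) = E.obj.map (g ≫ f).op x := by
  rw [← ConcreteCategory.comp_apply, ← Functor.map_comp]; rfl

lemma ab_map_map_apply (E : Sheaf J AddCommGrpCat.{u + 1}) {T U V : C} (f : U ⟶ T) (g : V ⟶ U)
    (x : E.obj.obj (op T)) : E.obj.map g.op (E.obj.map f.op x) = E.obj.map (g ≫ f).op x := by
  rw [← ConcreteCategory.comp_apply, ← Functor.map_comp]; rfl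

lemma map_id_apply (E : Sheaf J (Type (u + 1))) {T : C} (x : E.obj.obj (op T)) :
    E.obj.map (𝟙 T).op x = x := by
  rw [op_id, E.obj.map_id]; rfl

lemma ab_map_id_apply (E : Sheaf J AddCommGrpCat.{u + 1}) {T : C} (x : E.obj.obj (op T)) :
    E.obj.map (𝟙 T).op x = x := by
  rw [op_id, E.obj.map_id]; rfl

lemma sheafFor (E : Sheaf J (Type (u + 1))) {T : C} {R : Sieve T} (hR : R ∈ J T) :
    Presieve.IsSheafFor E.obj R.arrows :=
  (isSheaf_iff_isSheaf_of_type J E.obj).1 E.property R hR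

lemma ext_local (E : Sheaf J (Type (u + 1))) {T : C} {R : Sieve T} (hR : R ∈ J T) (x y : E.obj.obj (op T))
    (h : ∀ ⦃T' : C⦄ (f : T' ⟶ T), R f → E.obj.map f.op x = E.obj.map f.op y) : x = y :=
  (sheafFor E hR).isSeparatedFor.ext h

lemma ab_ext_local (E : Sheaf J AddCommGrpCat.{u + 1}) {T : C} {R : Sieve T} (hR : R ∈ J T)
    (x y : E.obj.obj (op T)) (h : ∀ ⦃T' : C⦄ (f : T' ⟶ T), R f → E.obj.map f.op x = E.obj.map f.op y) : x = y :=
  ext_local (Biext.uSh J E) hR x y h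

/-- Glue a section characterised by a predicate stable by restriction with locally existing, unique solutions. -/
lemma exists_glue (E : Sheaf J (Type (u + 1))) {T : C} {R : Sieve T} (hR : R ∈ J T)
    (Prd : ∀ ⦃T' : C⦄, (T' ⟶ T) → E.obj.obj (op T') → Prop)
    (hres : ∀ ⦃T' T'' : C⦄ (f : T' ⟶ T) (g : T'' ⟶ T') (x : E.obj.obj (op T')), R f → Prd f x →
      Prd (g ≫ f) (E.obj.map g.op x))
    (huniq : ∀ ⦃T' : C⦄ (f : T' ⟶ T) (x y : E.obj.obj (op T')), R f → Prd f x → Prd f y → x = y)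
    (hex : ∀ ⦃T' : C⦄ (f : T' ⟶ T), R f → ∃ x, Prd f x) :
    ∃ x : E.obj.obj (op T), ∀ ⦃T' : C⦄ (f : T' ⟶ T), R f → Prd f (E.obj.map f.op x) := by
  choose c hc using hex
  let fam : Presieve.FamilyOfElements E.obj R.arrows := fun T' f hf => c f hf
  have hfam : fam.Compatible := by
    intro Y₁ Y₂ Z g₁ g₂ f₁ f₂ h₁ h₂ heq
    refine huniq (g₁ ≫ f₁) _ _ (R.downward_closed h₁ g₁) (hres _ _ _ h₁ (hc _ h₁)) ?_
    rw [heq]
    exact hres _ _ _ h₂ (hc _ h₂)
  refine ⟨(sheafFor E hR).amalgamate fam hfam, fun T' f hf => ?_⟩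
  rw [(sheafFor E hR).valid_glue hfam f hf]
  exact hc f hf

lemma exists_glue_ab (E : Sheaf J AddCommGrpCat.{u + 1}) {T : C} {R : Sieve T} (hR : R ∈ J T)
    (Prd : ∀ ⦃T' : C⦄, (T' ⟶ T) → E.obj.obj (op T') → Prop)
    (hres : ∀ ⦃T' T'' : C⦄ (f : T' ⟶ T) (g : T'' ⟶ T') (x : E.obj.obj (op T')), R f → Prd f x →
      Prd (g ≫ f) (E.obj.map g.op x))
    (huniq : ∀ ⦃T' : C⦄ (f : T' ⟶ T) (x y : E.obj.obj (op T')), R f → Prd f x → Prd f y → x = y)
    (hex : ∀ ⦃T' : C⦄ (f : T' ⟶ T), R f → ∃ x, Prd f x) :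
    ∃ x : E.obj.obj (op T), ∀ ⦃T' : C⦄ (f : T' ⟶ T), R f → Prd f (E.obj.map f.op x) :=
  exists_glue (Biext.uSh J E) hR Prd hres huniq hex

/-- A homomorphism on a slice from a locally total, single valued, additive relation. -/
lemma exists_hom (Q X : Sheaf J AddCommGrpCat.{u + 1}) (T : C)
    (Rv : ∀ U : Over T, Q.obj.obj (op U.left) → X.obj.obj (op U.left) → Prop)
    (hres : ∀ (U U' : Over T) (g : U' ⟶ U) q y, Rv U q y → Rv U' (Q.obj.map g.left.op q) (X.obj.map g.left.op y))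
    (huniq : ∀ U q y y', Rv U q y → Rv U q y' → y = y')
    (hadd : ∀ U q q' y y', Rv U q y → Rv U q' y' → Rv U (q + q') (y + y'))
    (hloc : ∀ (U : Over T) (q : Q.obj.obj (op U.left)), ∃ R ∈ J U.left, ∀ ⦃T' : C⦄ (f : T' ⟶ U.left), R f →
      ∃ y, Rv (Over.mk (f ≫ U.hom)) (Q.obj.map f.op q) y) :
    ∃ θ : Q.over T ⟶ X.over T, ∀ U q y, Rv U q y → θ.hom.app (op U) q = y := by
  have hg : ∀ (U : Over T) (q : Q.obj.obj (op U.left)), ∃ y : X.obj.obj (op U.left), ∃ R ∈ J U.left,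
      ∀ ⦃T' : C⦄ (f : T' ⟶ U.left), R f → Rv (Over.mk (f ≫ U.hom)) (Q.obj.map f.op q) (X.obj.map f.op y) := by
    intro U q
    obtain ⟨R, hR, hl⟩ := hloc U q
    obtain ⟨y, hy⟩ := exists_glue_ab X hR
      (fun T' f y => Rv (Over.mk (f ≫ U.hom)) (Q.obj.map f.op q) y)
      (fun T' T'' f g x _ hx => by
        have h1 := hres _ (Over.mk ((g ≫ f) ≫ U.hom))
          (Over.homMk g (assoc _ _ _).symm : Over.mk ((g ≫ f) ≫ U.hom) ⟶ Over.mk (f ≫ U.hom)) _ _ hx
        rw [← ab_map_map_apply Q f g q]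
        exact h1)
      (fun T' f x y _ => huniq _ _ _ _) hl
    exact ⟨y, R, hR, hy⟩
  choose v Rc hRc hv using hg
  have hkey : ∀ (U : Over T) q y, Rv U q y → v U q = y := by
    intro U q y h
    refine ab_ext_local X (hRc U q) _ _ fun T' f hf => huniq _ _ _ _ (hv U q f hf) ?_
    exact hres U (Over.mk (f ≫ U.hom)) (Over.homMk f rfl) q y h
  have hv' : ∀ (U : Over T) q ⦃T' : C⦄ (f : T' ⟶ U.left), Rc U q f →
      v (Over.mk (f ≫ U.hom)) (Q.obj.map f.op q) = X.obj.map f.op (v U q) := fun U q T' f hf =>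
    hkey _ _ _ (hv U q f hf)
  have hnat : ∀ (U U' : Over T) (g : U' ⟶ U) q, v U' (Q.obj.map g.left.op q) = X.obj.map g.left.op (v U q) := by
    intro U U' g q
    refine ab_ext_local X (J.intersection_covering (hRc U' (Q.obj.map g.left.op q))
      (J.pullback_stable g.left (hRc U q))) _ _ fun T' f hf => ?_
    refine huniq _ _ _ _ (hv U' _ f hf.1) ?_
    have h2 := hres _ (Over.mk (f ≫ U'.hom))
      (Over.homMk (𝟙 T') (by simp [Over.w g]) :
        Over.mk (f ≫ U'.hom) ⟶ Over.mk ((f ≫ g.left) ≫ U.hom)) _ _ (hv U q (f ≫ g.left) hf.2)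
    rw [ab_map_map_apply Q g.left f q, ab_map_map_apply X g.left f]
    exact (ab_map_id_apply Q (Q.obj.map (f ≫ g.left).op q)) ▸ (ab_map_id_apply X (X.obj.map (f ≫ g.left).op (v U q))) ▸ h2
  have hvadd : ∀ U q q', v U (q + q') = v U q + v U q' := by
    intro U q q'
    refine ab_ext_local X (J.intersection_covering (hRc U (q + q'))
      (J.intersection_covering (hRc U q) (hRc U q'))) _ _ fun T' f hf => ?_
    refine huniq _ _ _ _ (hv U _ f hf.1) ?_
    rw [map_add, map_add]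
    exact hadd _ _ _ _ _ (hv U q f hf.2.1) (hv U q' f hf.2.2)
  refine ⟨⟨{ app := fun U => AddCommGrpCat.ofHom (AddMonoidHom.mk' (v U.unop) (hvadd U.unop))
             naturality := fun U U' g => ?_ }⟩, hkey⟩
  exact AddCommGrpCat.ext fun q => hnat U.unop U'.unop g.unop q

section Laws

variable {P Q G : Sheaf J AddCommGrpCat.{u + 1}} (B : Biext J P Q G)

/-- The same biextension with the two factors exchanged. -/
def swap : Biext J Q P G where
  E := B.E
  πP := B.πQ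
  πQ := B.πP
  πP_map := B.πQ_map
  πQ_map := B.πP_map
  act := B.act
  act_map := B.act_map
  πP_act := B.πQ_act
  πQ_act := B.πP_act
  zero_act := B.zero_act
  add_act := B.add_act
  existsUnique_act T x y h h' := B.existsUnique_act T x y h' h
  locallySurjective T p q := by
    obtain ⟨R, hR, h⟩ := B.locallySurjective T q p
    exact ⟨R, hR, fun T' f hf => let ⟨x, h₁, h₂⟩ := h f hf; ⟨x, h₂, h₁⟩⟩
  add₁ := B.add₂
  πP_add₁ := B.πQ_add₂
  πQ_add₁ := B.πP_add₂
  add₁_map := B.add₂_map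
  add₁_comm := B.add₂_comm
  add₁_assoc := B.add₂_assoc
  add₁_act := B.add₂_act
  add₂ := B.add₁
  πP_add₂ := B.πQ_add₁
  πQ_add₂ := B.πP_add₁
  add₂_map := B.add₁_map
  add₂_comm := B.add₁_comm
  add₂_assoc := B.add₁_assoc
  add₂_act := B.add₁_act
  compat T x y z t hxy hzt hxz hyt := (B.compat T x z y t hxz hyt hxy hzt).symm

lemma add₂_act_right {T : C} (g : G.obj.obj (op T)) (x y : B.E.obj.obj (op T)) (h : B.πP T x = B.πP T y) :
    B.add₂ T x (B.act T g y) (h.trans (B.πP_act T g y).symm) = B.act T g (B.add₂ T x y h) := by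
  rw [B.add₂_comm T x (B.act T g y), B.add₂_act T g y x h.symm, B.add₂_comm T y x]

lemma act_free {T : C} {g g' : G.obj.obj (op T)} {x : B.E.obj.obj (op T)} (h : B.act T g x = B.act T g' x) :
    g = g' :=
  (B.existsUnique_act T x (B.act T g' x) (B.πP_act T g' x).symm (B.πQ_act T g' x).symm).unique h rfl

lemma add₂_congr {T : C} {x x' y y' : B.E.obj.obj (op T)} (hx : x = x') (hy : y = y') (h : B.πP T x = B.πP T y) :
    B.add₂ T x y h = B.add₂ T x' y' (by rw [← hx, ← hy]; exact h) := by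
  subst hx; subst hy; rfl

/-- Being the unit of the second law above `p`. -/
def IsZero₂ (T : C) (p : P.obj.obj (op T)) (z : B.E.obj.obj (op T)) : Prop :=
  B.πP T z = p ∧ B.πQ T z = 0 ∧ B.add₂ T z z rfl = z

variable {B}

lemma IsZero₂.res {T T' : C} {p : P.obj.obj (op T)} {z : B.E.obj.obj (op T)} (h : IsZero₂ B T p z) (f : T' ⟶ T) :
    IsZero₂ B T' (P.obj.map f.op p) (B.E.obj.map f.op z) := by
  refine ⟨by rw [B.πP_map, h.1], by rw [B.πQ_map, h.2.1, map_zero], ?_⟩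
  rw [← B.add₂_map f z z rfl, h.2.2]

lemma IsZero₂.unique {T : C} {p : P.obj.obj (op T)} {z z' : B.E.obj.obj (op T)} (h : IsZero₂ B T p z)
    (h' : IsZero₂ B T p z') : z' = z := by
  obtain ⟨g, hg, -⟩ := B.existsUnique_act T z z' (h.1.trans h'.1.symm) (h.2.1.trans h'.2.1.symm)
  subst hg
  have h1 : B.act T (g + g) z = B.act T g z := by
    conv_rhs => rw [← h'.2.2]
    rw [B.add₂_act T g z (B.act T g z) (B.πP_act T g z).symm, add₂_act_right B g z z rfl, h.2.2, ← B.add_act]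
  have : g = 0 := by simpa using act_free B h1
  rw [this, B.zero_act]

variable (B)

lemma exists_zero₂ (T : C) (p : P.obj.obj (op T)) : ∃ z, IsZero₂ B T p z := by
  obtain ⟨R, hR, h⟩ := B.locallySurjective T p 0
  have hex : ∀ ⦃T' : C⦄ (f : T' ⟶ T), R f → ∃ z, IsZero₂ B T' (P.obj.map f.op p) z := by
    intro T' f hf
    obtain ⟨x, hxP, hxQ⟩ := h f hf
    rw [map_zero] at hxQ
    obtain ⟨g, hg, -⟩ := B.existsUnique_act T' x (B.add₂ T' x x rfl) (B.πP_add₂ _ _ _ _).symm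
      (by rw [B.πQ_add₂, hxQ, add_zero])
    refine ⟨B.act T' (-g) x, by rw [B.πP_act, hxP], by rw [B.πQ_act, hxQ], ?_⟩
    rw [B.add₂_act T' (-g) x (B.act T' (-g) x) (B.πP_act T' (-g) x).symm, add₂_act_right B (-g) x x rfl, ← hg,
      ← B.add_act, ← B.add_act]
    congr 1
    abel
  obtain ⟨z, hz⟩ := exists_glue B.E hR (fun T' f z => IsZero₂ B T' (P.obj.map f.op p) z)
    (fun T' T'' f g x _ hx => by
      have := hx.res g
      rwa [ab_map_map_apply] at this)
    (fun T' f x y _ hx hy => (hx.unique hy).symm) hex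
  refine ⟨z, ab_ext_local P hR _ _ fun T' f hf => ?_, ab_ext_local Q hR _ _ fun T' f hf => ?_,
      ext_local B.E hR _ _ fun T' f hf => ?_⟩
  · exact (B.πP_map f z).symm.trans (hz f hf).1
  · rw [map_zero]; exact (B.πQ_map f z).symm.trans (hz f hf).2.1
  · rw [B.add₂_map]; exact (hz f hf).2.2

/-- The unit of the second law. -/
noncomputable def z₂ (T : C) (p : P.obj.obj (op T)) : B.E.obj.obj (op T) := (exists_zero₂ B T p).choose

lemma z₂_spec (T : C) (p : P.obj.obj (op T)) : IsZero₂ B T p (z₂ B T p) := (exists_zero₂ B T p).choose_spec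

lemma πP_z₂ (T : C) (p : P.obj.obj (op T)) : B.πP T (z₂ B T p) = p := (z₂_spec B T p).1

lemma πQ_z₂ (T : C) (p : P.obj.obj (op T)) : B.πQ T (z₂ B T p) = 0 := (z₂_spec B T p).2.1

lemma z₂_map {T T' : C} (f : T' ⟶ T) (p : P.obj.obj (op T)) :
    B.E.obj.map f.op (z₂ B T p) = z₂ B T' (P.obj.map f.op p) :=
  IsZero₂.unique (z₂_spec B T' _) ((z₂_spec B T p).res f)

lemma z₂_add₂ {T : C} (x : B.E.obj.obj (op T)) {p : P.obj.obj (op T)} (hp : B.πP T x = p) :
    B.add₂ T (z₂ B T p) x ((πP_z₂ B T p).trans hp.symm) = x := by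
  have h := (πP_z₂ B T p).trans hp.symm
  obtain ⟨g, hg, -⟩ := B.existsUnique_act T x (B.add₂ T (z₂ B T p) x h) (by rw [B.πP_add₂, h])
    (by rw [B.πQ_add₂, πQ_z₂, zero_add])
  have h1 := B.add₂_assoc T (z₂ B T p) (z₂ B T p) x rfl h
  rw [add₂_congr B (z₂_spec B T p).2.2 (Eq.refl x)] at h1
  rw [add₂_congr B (Eq.refl (z₂ B T p)) hg.symm, add₂_act_right B g _ _ h, ← hg, ← B.add_act] at h1
  have : g = 0 := by simpa using act_free B h1.symm
  rw [← hg, this, B.zero_act]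

lemma exists_neg₂ {T : C} (x : B.E.obj.obj (op T)) :
    ∃ (y : B.E.obj.obj (op T)) (h : B.πP T x = B.πP T y), B.add₂ T x y h = z₂ B T (B.πP T x) := by
  obtain ⟨R, hR, hl⟩ := B.locallySurjective T (B.πP T x) (-B.πQ T x)
  have hex : ∀ ⦃T' : C⦄ (f : T' ⟶ T), R f → ∃ (y : B.E.obj.obj (op T'))
      (h : B.πP T' (B.E.obj.map f.op x) = B.πP T' y),
      B.add₂ T' (B.E.obj.map f.op x) y h = z₂ B T' (B.πP T' (B.E.obj.map f.op x)) := by
    intro T' f hf
    obtain ⟨y, hyP, hyQ⟩ := hl f hf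
    have h : B.πP T' (B.E.obj.map f.op x) = B.πP T' y := by rw [hyP, B.πP_map]
    obtain ⟨g, hg, -⟩ := B.existsUnique_act T' (B.add₂ T' _ y h) (z₂ B T' (B.πP T' (B.E.obj.map f.op x)))
      (by rw [B.πP_add₂, πP_z₂]) (by rw [B.πQ_add₂, πQ_z₂, B.πQ_map, hyQ, map_neg, add_neg_cancel])
    exact ⟨B.act T' g y, h.trans (B.πP_act T' g y).symm, (add₂_act_right B g _ _ h).trans hg⟩
  obtain ⟨y, hy⟩ := exists_glue B.E hR (fun T' f y => ∃ h : B.πP T' (B.E.obj.map f.op x) = B.πP T' y,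
      B.add₂ T' (B.E.obj.map f.op x) y h = z₂ B T' (B.πP T' (B.E.obj.map f.op x)))
    (fun T' T'' f g y _ ⟨h, hy⟩ => by
      refine ⟨by rw [← map_map_apply, B.πP_map, h, B.πP_map], ?_⟩
      rw [add₂_congr B (map_map_apply B.E f g x).symm (Eq.refl (B.E.obj.map g.op y)), ← B.add₂_map g _ y h, hy,
        z₂_map, ← B.πP_map, map_map_apply])
    (fun T' f y y' _ ⟨h, hy⟩ ⟨h', hy'⟩ => by
      have hQ : B.πQ T' y = B.πQ T' y' := by
        have e := congr_arg (B.πQ T') (hy.trans hy'.symm)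
        rw [B.πQ_add₂, B.πQ_add₂] at e
        exact add_left_cancel e
      obtain ⟨g, hg, -⟩ := B.existsUnique_act T' y y' (h.symm.trans h') hQ
      subst hg
      rw [add₂_act_right B g _ _ h, hy] at hy'
      have : g = 0 := act_free B (hy'.trans (B.zero_act T' _).symm)
      rw [this, B.zero_act])
    hex
  have hP : B.πP T x = B.πP T y := ab_ext_local P hR _ _ fun T' f hf => by
    rw [← B.πP_map, ← B.πP_map]; exact (hy f hf).1
  refine ⟨y, hP, ext_local B.E hR _ _ fun T' f hf => ?_⟩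
  rw [B.add₂_map, z₂_map]
  exact (hy f hf).2.trans (congr_arg _ (B.πP_map f x))

lemma add₂_left_cancel {T : C} {x y y' : B.E.obj.obj (op T)} (h : B.πP T x = B.πP T y) (h' : B.πP T x = B.πP T y')
    (e : B.add₂ T x y h = B.add₂ T x y' h') : y = y' := by
  have hQ : B.πQ T y = B.πQ T y' := by
    have e' := congr_arg (B.πQ T) e
    rw [B.πQ_add₂, B.πQ_add₂] at e'
    exact add_left_cancel e'
  obtain ⟨g, hg, -⟩ := B.existsUnique_act T y y' (h.symm.trans h') hQ
  subst hg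
  rw [add₂_act_right B g _ _ h] at e
  have : g = 0 := act_free B (e.symm.trans (B.zero_act T _).symm)
  rw [this, B.zero_act]

/-- The inverse for the second law. -/
noncomputable def neg₂ {T : C} (x : B.E.obj.obj (op T)) : B.E.obj.obj (op T) := (exists_neg₂ B x).choose

lemma πP_neg₂ {T : C} (x : B.E.obj.obj (op T)) : B.πP T x = B.πP T (neg₂ B x) := (exists_neg₂ B x).choose_spec.1

lemma add₂_neg₂ {T : C} (x : B.E.obj.obj (op T)) :
    B.add₂ T x (neg₂ B x) (πP_neg₂ B x) = z₂ B T (B.πP T x) := (exists_neg₂ B x).choose_spec.2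

lemma πQ_neg₂ {T : C} (x : B.E.obj.obj (op T)) : B.πQ T (neg₂ B x) = -B.πQ T x := by
  have h := congr_arg (B.πQ T) (add₂_neg₂ B x)
  rw [B.πQ_add₂, πQ_z₂] at h
  exact eq_neg_of_add_eq_zero_right h

end Laws

end Groth.Agent.BiextTriv
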