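import Mathlib.CategoryTheory.Sites.Over
import Mathlib.CategoryTheory.Sites.EpiMono
import Mathlib.CategoryTheory.Sites.Abelian
import Mathlib.CategoryTheory.Preadditive.Injective.Basic
import Mathlib.Algebra.Category.Grp.EnoughInjectives
import Mathlib.Algebra.Category.Grp.Abelian
import Mathlib.Algebra.Category.Grp.Limits
import Mathlib.Algebra.Category.Grp.Colimits
import Mathlib.CategoryTheory.Adjunction.Limits
import Mathlib.Algebra.Homology.ShortComplex.Ab

/-!
On a site with `C : Type (u+1)`: restriction to a slice preserves injective abelian sheaves; local lifting along exact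
sequences of abelian sheaves.
-/

set_option autoImplicit false
set_option backward.isDefEq.respectTransparency false
set_option backward.isDefEq.respectTransparency.types false

universe u

open CategoryTheory Category Limits Opposite

namespace Groth.Agent.BiextTriv

section Coind

variable {E : Type (u + 1)} [Category.{u} E]

/-- The coinduced presheaf of a family of abelian groups. -/
def coind (A : E → AddCommGrpCat.{u + 1}) : Eᵒᵖ ⥤ AddCommGrpCat.{u + 1} where
  obj W := AddCommGrpCat.of (∀ V : E, (V ⟶ W.unop) → A V)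
  map g := AddCommGrpCat.ofHom (AddMonoidHom.mk' (fun φ V f => φ V (f ≫ g.unop)) (fun _ _ => rfl))
  map_id W := by ext φ V f; change φ V (f ≫ 𝟙 _) = φ V f; rw [Category.comp_id]
  map_comp g h := by
    ext φ V f
    change φ V (f ≫ h.unop ≫ g.unop) = φ V ((f ≫ h.unop) ≫ g.unop)
    rw [Category.assoc]

lemma injective_coind (A : E → AddCommGrpCat.{u + 1}) [∀ V, Injective (A V)] : Injective (coind A) where
  factors {P Q} φ m hm := by
    let e : ∀ V : E, (coind A).obj (op V) ⟶ A V := fun V =>
      AddCommGrpCat.ofHom (AddMonoidHom.mk' (fun φ => φ V (𝟙 V)) fun _ _ => rfl)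
    let ψ : ∀ V, Q.obj (op V) ⟶ A V := fun V => Injective.factorThru (φ.app (op V) ≫ e V) (m.app (op V))
    refine ⟨{ app := fun W => AddCommGrpCat.ofHom (AddMonoidHom.mk' (fun q V f => ψ V (Q.map f.op q)) fun a b => ?_)
              naturality := fun W W' g => ?_ }, ?_⟩
    · funext V f
      exact (congr_arg (ψ V) (map_add (Q.map f.op).hom a b)).trans (map_add (ψ V).hom _ _)
    · ext q; funext V f
      change ψ V (Q.map f.op (Q.map g q)) = ψ V (Q.map (f ≫ g.unop).op q)
      refine congr_arg (ψ V) ?_
      rw [← ConcreteCategory.comp_apply, ← Functor.map_comp]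
      rfl
    · ext W p; funext V f
      change ψ V (Q.map f.op (m.app W p)) = φ.app W p V f
      rw [← NatTrans.naturality_apply m f.op p]
      refine (ConcreteCategory.congr_hom
        (Injective.comp_factorThru (φ.app (op V) ≫ e V) (m.app (op V))) _).trans ?_
      refine (congr_arg (e V) (NatTrans.naturality_apply φ f.op p)).trans ?_
      change φ.app W p V (𝟙 V ≫ f) = φ.app W p V f
      rw [Category.id_comp]

/-- The canonical map into a coinduced presheaf of injective groups. -/
noncomputable def toCoind (Q : Eᵒᵖ ⥤ AddCommGrpCat.{u + 1}) :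
    Q ⟶ coind fun V => Injective.under (Q.obj (op V)) where
  app W := AddCommGrpCat.ofHom (AddMonoidHom.mk' (fun s V f => Injective.ι (Q.obj (op V)) (Q.map f.op s))
    (fun a b => funext fun V => funext fun f => by simp))
  naturality W W' g := by
    ext s; funext V f
    change Injective.ι (Q.obj (op V)) (Q.map f.op (Q.map g s)) =
      Injective.ι (Q.obj (op V)) (Q.map (f ≫ g.unop).op s)
    refine congr_arg _ ?_
    rw [← ConcreteCategory.comp_apply, ← Functor.map_comp]
    rfl

instance mono_toCoind (Q : Eᵒᵖ ⥤ AddCommGrpCat.{u + 1}) : Mono (toCoind Q) := by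
  have : ∀ W, Mono ((toCoind Q).app W) := fun W => (AddCommGrpCat.mono_iff_injective _).mpr fun a b h => by
    have h' := (AddCommGrpCat.mono_iff_injective (Injective.ι (Q.obj (op W.unop)))).mp inferInstance
      (congr_fun (congr_fun h W.unop) (𝟙 _))
    change Q.map (𝟙 W.unop).op a = Q.map (𝟙 W.unop).op b at h'
    simpa using h'
  exact NatTrans.mono_of_mono_app _

end Coind

variable {C : Type (u + 1)} [Category.{u} C] (J : GrothendieckTopology C)

/-- The section of the coinduced embedding on a slice. -/
noncomputable def toCoindOver (U : C) (I : Cᵒᵖ ⥤ AddCommGrpCat.{u + 1}) :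
    (Over.forget U).op ⋙ I ⟶ coind fun W : Over U => Injective.under (I.obj (op W.left)) where
  app W := AddCommGrpCat.ofHom
    { toFun := fun s V f => Injective.ι (I.obj (op V.left)) (I.map f.left.op s)
      map_zero' := funext fun V => funext fun f => (congr_arg _ (map_zero (I.map f.left.op).hom)).trans
        (map_zero (Injective.ι (I.obj (op V.left))).hom)
      map_add' := fun a b => funext fun V => funext fun f =>
        (congr_arg _ (map_add (I.map f.left.op).hom a b)).trans (map_add (Injective.ι (I.obj (op V.left))).hom _ _) }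
  naturality W W' g := by
    ext s; funext V f
    change Injective.ι (I.obj (op V.left)) (I.map f.left.op (I.map g.unop.left.op s)) =
      Injective.ι (I.obj (op V.left)) (I.map (f ≫ g.unop).left.op s)
    refine congr_arg _ ?_
    rw [← ConcreteCategory.comp_apply, ← Functor.map_comp]
    rfl

/-- The comparison of coinduced presheaves on a slice. -/
def coindOverTo (U : C) (A : C → AddCommGrpCat.{u + 1}) :
    coind (fun W : Over U => A W.left) ⟶ (Over.forget U).op ⋙ coind A where
  app W := AddCommGrpCat.ofHom (AddMonoidHom.mk'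
    (fun ψ V g => ψ (Over.mk (g ≫ W.unop.hom)) (Over.homMk g)) (fun _ _ => rfl))
  naturality W W' h := by
    ext ψ; funext V g
    change ψ (Over.mk (g ≫ W'.unop.hom)) (Over.homMk g ≫ h.unop) =
      ψ (Over.mk ((g ≫ h.unop.left) ≫ W.unop.hom)) (Over.homMk (g ≫ h.unop.left))
    have key : ∀ (q q' : V ⟶ U), q = q' → ∀ (m : Over.mk q ⟶ W.unop) (m' : Over.mk q' ⟶ W.unop),
        m.left = m'.left → ψ (Over.mk q) m = ψ (Over.mk q') m' := by
      intro q q' hq m m' hm
      subst hq
      rw [Over.OverMorphism.ext hm]
    refine key _ _ ?_ _ _ rfl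
    erw [Category.assoc, Over.w h.unop]

lemma injective_restrict_presheaf (U : C) (I : Cᵒᵖ ⥤ AddCommGrpCat.{u + 1}) [Injective I] :
    Injective ((Over.forget U).op ⋙ I) := by
  let A : C → AddCommGrpCat.{u + 1} := fun V => Injective.under (I.obj (op V))
  have : Injective (coind fun W : Over U => A W.left) := injective_coind _
  refine Retract.injective
    { i := toCoindOver U I
      r := coindOverTo U A ≫ Functor.whiskerLeft (Over.forget U).op (Injective.factorThru (𝟙 I) (toCoind I))
      retract := ?_ }
  ext W s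
  exact ConcreteCategory.congr_hom (NatTrans.congr_app
    (Injective.comp_factorThru (𝟙 I) (toCoind I)) (op W.unop.left)) s

instance injective_over [HasSheafify J AddCommGrpCat.{u + 1}] (U : C) (I : Sheaf J AddCommGrpCat.{u + 1})
    [Injective I] : Injective (I.over U) where
  factors {A B} g f hf := by
    have : Injective I.obj := Injective.injective_of_adjoint (sheafificationAdjunction J AddCommGrpCat.{u + 1}) I
    have : Injective (I.over U).obj := injective_restrict_presheaf U I.obj
    have : Mono f.hom := inferInstanceAs (Mono ((sheafToPresheaf _ _).map f))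
    exact ⟨⟨Injective.factorThru g.hom f.hom⟩, Sheaf.hom_ext (Injective.comp_factorThru g.hom f.hom)⟩

variable [HasSheafify J AddCommGrpCat.{u + 1}]

/-- Sections of a left exact part of a short complex. -/
lemma exists_of_fork {X₁ X₂ X₃ : Sheaf J AddCommGrpCat.{u + 1}} (f : X₁ ⟶ X₂) (g : X₂ ⟶ X₃) (w : f ≫ g = 0)
    (h : IsLimit (KernelFork.ofι f w)) (T : C) (z : X₂.obj.obj (op T)) (hz : g.hom.app (op T) z = 0) :
    ∃ y : X₁.obj.obj (op T), f.hom.app (op T) y = z := by
  let Γ : Sheaf J AddCommGrpCat.{u + 1} ⥤ AddCommGrpCat.{u + 1} :=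
    sheafToPresheaf J _ ⋙ (evaluation Cᵒᵖ AddCommGrpCat.{u + 1}).obj (op T)
  haveI : Γ.PreservesZeroMorphisms := ⟨fun _ _ => rfl⟩
  let S : ShortComplex AddCommGrpCat.{u + 1} :=
    ShortComplex.mk (Γ.map f) (Γ.map g) (by rw [← Γ.map_comp, w, Γ.map_zero])
  have he : S.Exact := ShortComplex.exact_of_f_is_kernel S (KernelFork.mapIsLimit _ h Γ)
  exact (ShortComplex.ab_exact_iff S).1 he z hz

/-- A section killed by the second map of an exact sequence of sheaves lifts locally. -/
lemma exists_local_lift [J.WEqualsLocallyBijective AddCommGrpCat.{u + 1}] {S : ShortComplex (Sheaf J AddCommGrpCat.{u + 1})} (hS : S.Exact) (T : C)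
    (z : S.X₂.obj.obj (op T)) (hz : S.g.hom.app (op T) z = 0) :
    ∃ R ∈ J T, ∀ ⦃T' : C⦄ (f : T' ⟶ T), R f →
      ∃ x : S.X₁.obj.obj (op T'), S.f.hom.app (op T') x = S.X₂.obj.map f.op z := by
  obtain ⟨y, hy⟩ := exists_of_fork J (kernel.ι S.g) S.g (kernel.condition _) (kernelIsKernel S.g) T z hz
  haveI := hS.epi_kernelLift
  let e := kernel.lift S.g S.f S.zero
  have hl : Sheaf.IsLocallySurjective e := (Sheaf.isLocallySurjective_iff_epi' _ _).mpr inferInstance
  refine ⟨_, Presheaf.imageSieve_mem J e.hom (U := op T) y, fun T' f ⟨x, hx⟩ => ⟨x, ?_⟩⟩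
  rw [← hy, ← NatTrans.naturality_apply (kernel.ι S.g).hom f.op y]
  have h1 := congr_arg (fun φ : S.X₁ ⟶ S.X₂ => φ.hom.app (op T') x) (kernel.lift_ι S.g S.f S.zero)
  exact h1.symm.trans (congr_arg ((kernel.ι S.g).hom.app (op T')) hx)

omit [HasSheafify J AddCommGrpCat.{u + 1}] in
lemma sect_injective {F G : Sheaf J AddCommGrpCat.{u + 1}} (f : F ⟶ G) [Mono f] (T : C) :
    Function.Injective (f.hom.app (op T)) := by
  haveI : Mono f.hom := inferInstanceAs (Mono ((sheafToPresheaf _ _).map f))
  exact (AddCommGrpCat.mono_iff_injective _).1 inferInstance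

end Groth.Agent.BiextTriv
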