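import Groth.Agent.BiextTriv.Glue

/-!
Endomorphisms of a biextension and biadditive maps.
-/

set_option autoImplicit false
set_option backward.isDefEq.respectTransparency false
set_option backward.isDefEq.respectTransparency.types false

universe u

open CategoryTheory Category Limits Opposite

namespace Groth.Agent.BiextTriv

variable {C : Type (u + 1)} [Category.{u} C] {J : GrothendieckTopology C}
variable {P Q G : Sheaf J AddCommGrpCat.{u + 1}} {B : Biext J P Q G}

/-- `P × Q → G` has no non-zero natural biadditive map. -/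
def NoBiadd (P Q G : Sheaf J AddCommGrpCat.{u + 1}) : Prop :=
  ∀ g : (T : C) → P.obj.obj (op T) → Q.obj.obj (op T) → G.obj.obj (op T),
    (∀ {T T' : C} (f : T' ⟶ T) p q, G.obj.map f.op (g T p q) = g T' (P.obj.map f.op p) (Q.obj.map f.op q)) →
    (∀ T p p' q, g T (p + p') q = g T p q + g T p' q) →
    (∀ T p q q', g T p (q + q') = g T p q + g T p q') → ∀ T p q, g T p q = 0

theorem eq_id_of_noBiadd (h : NoBiadd P Q G) (f : Biext.Hom J B B) : f = Biext.HomOver.id J B := by
  have hP : ∀ T x, B.πP T (f.map T x) = B.πP T x := fun T x => f.πP_map T x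
  have hQ : ∀ T x, B.πQ T (f.map T x) = B.πQ T x := fun T x => f.πQ_map T x
  let Prd : ∀ (T : C), P.obj.obj (op T) → Q.obj.obj (op T) → G.obj.obj (op T) → Prop := fun T p q g =>
    ∀ x, B.πP T x = p → B.πQ T x = q → f.map T x = B.act T g x
  have hone : ∀ (T : C) (x : B.E.obj.obj (op T)) g, f.map T x = B.act T g x →
      Prd T (B.πP T x) (B.πQ T x) g := by
    intro T x g hg y hp hq
    obtain ⟨c, hc, -⟩ := B.existsUnique_act T x y hp.symm hq.symm
    subst hc
    rw [f.map_act, hg]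
    exact (B.add_act T _ g x).symm.trans ((congr_arg (B.act T · x) (add_comm _ g)).trans (B.add_act T g c x))
  have hg : ∀ (T : C) p q, ∃ g : G.obj.obj (op T), ∀ ⦃T' : C⦄ (k : T' ⟶ T),
      Prd T' (P.obj.map k.op p) (Q.obj.map k.op q) (G.obj.map k.op g) := by
    intro T p q
    obtain ⟨R, hR, hl⟩ := B.locallySurjective T p q
    obtain ⟨g, hg⟩ := exists_glue_ab G hR
      (fun T' k g => ∃ x, B.πP T' x = P.obj.map k.op p ∧ B.πQ T' x = Q.obj.map k.op q ∧ f.map T' x = B.act T' g x)
      (fun T' T'' k l g _ ⟨x, hx1, hx2, hx3⟩ => ⟨B.E.obj.map l.op x,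
        (B.πP_map l x).trans ((congr_arg _ hx1).trans (ab_map_map_apply P k l p)),
        (B.πQ_map l x).trans ((congr_arg _ hx2).trans (ab_map_map_apply Q k l q)),
        (f.map_res l x).trans ((congr_arg _ hx3).trans (B.act_map l g x))⟩)
      (fun T' k g g' _ ⟨x, hx1, hx2, hx3⟩ ⟨y, hy1, hy2, hy3⟩ =>
        act_free B ((hone T' x g hx3 y (hy1.trans hx1.symm) (hy2.trans hx2.symm)).symm.trans hy3))
      (fun T' k hk => by
        obtain ⟨x, hx1, hx2⟩ := hl k hk
        obtain ⟨g, hg, -⟩ := B.existsUnique_act T' x (f.map T' x) (hP T' x).symm (hQ T' x).symm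
        exact ⟨g, x, hx1, hx2, hg.symm⟩)
    refine ⟨g, fun T' k y hy1 hy2 => ext_local B.E (J.pullback_stable k hR) _ _ fun Z l hl' => ?_⟩
    obtain ⟨x, hx1, hx2, hx3⟩ := hg (l ≫ k) hl'
    rw [← f.map_res, B.act_map, ab_map_map_apply]
    refine hone Z x _ hx3 _ ?_ ?_
    · rw [B.πP_map, hy1, ab_map_map_apply, hx1]
    · rw [B.πQ_map, hy2, ab_map_map_apply, hx2]
  choose g hg using hg
  have hg1 : ∀ T x, f.map T x = B.act T (g T (B.πP T x) (B.πQ T x)) x := fun T x => by
    have := hg T (B.πP T x) (B.πQ T x) (𝟙 T) x (ab_map_id_apply P _).symm (ab_map_id_apply Q _).symm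
    rwa [ab_map_id_apply] at this
  have huniq : ∀ (T : C) p q c, (∀ ⦃T' : C⦄ (k : T' ⟶ T) x, B.πP T' x = P.obj.map k.op p →
      B.πQ T' x = Q.obj.map k.op q → f.map T' x = B.act T' (G.obj.map k.op c) x) → g T p q = c := by
    intro T p q c hc
    obtain ⟨R, hR, hl⟩ := B.locallySurjective T p q
    refine ab_ext_local G hR _ _ fun T' k hk => ?_
    obtain ⟨x, hx1, hx2⟩ := hl k hk
    exact act_free B ((hg T p q k x hx1 hx2).symm.trans (hc k x hx1 hx2))
  have hnat : ∀ {T T' : C} (k : T' ⟶ T) p q, G.obj.map k.op (g T p q) =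
      g T' (P.obj.map k.op p) (Q.obj.map k.op q) := fun {T T'} k p q => (huniq _ _ _ _ fun Z l x hx1 hx2 => by
    rw [ab_map_map_apply] at hx1 hx2 ⊢
    exact hg T p q (l ≫ k) x hx1 hx2).symm
  have hadd₁ : ∀ T p p' q, g T (p + p') q = g T p q + g T p' q := by
    intro T p p' q
    obtain ⟨R, hR, hl⟩ := B.locallySurjective T p q
    obtain ⟨R', hR', hl'⟩ := B.locallySurjective T p' q
    refine ab_ext_local G (J.intersection_covering hR hR') _ _ fun T' k hk => ?_
    obtain ⟨x, hx1, hx2⟩ := hl k hk.1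
    obtain ⟨y, hy1, hy2⟩ := hl' k hk.2
    have hxy : B.πQ T' x = B.πQ T' y := hx2.trans hy2.symm
    have h2 : f.map T' (B.add₁ T' x y hxy) =
        B.act T' (G.obj.map k.op (g T p q) + G.obj.map k.op (g T p' q)) (B.add₁ T' x y hxy) := by
      rw [f.map_add₁, B.add_act]
      refine Eq.trans ?_ ((B.add₁_act T' _ x _ _).trans (congr_arg _ (add₂_act_right (swap B) _ x y hxy)))
      exact add₂_congr (swap B) (hg T p q k x hx1 hx2) (hg T p' q k y hy1 hy2) _
    have h1 := hg T (p + p') q k (B.add₁ T' x y hxy)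
      (by rw [B.πP_add₁, hx1, hy1, map_add]) ((B.πQ_add₁ _ _ _ _).trans hx2)
    rw [map_add]
    exact act_free B (h1.symm.trans h2)
  have hadd₂ : ∀ T p q q', g T p (q + q') = g T p q + g T p q' := by
    intro T p q q'
    obtain ⟨R, hR, hl⟩ := B.locallySurjective T p q
    obtain ⟨R', hR', hl'⟩ := B.locallySurjective T p q'
    refine ab_ext_local G (J.intersection_covering hR hR') _ _ fun T' k hk => ?_
    obtain ⟨x, hx1, hx2⟩ := hl k hk.1
    obtain ⟨y, hy1, hy2⟩ := hl' k hk.2
    have hxy : B.πP T' x = B.πP T' y := hx1.trans hy1.symm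
    have h2 : f.map T' (B.add₂ T' x y hxy) =
        B.act T' (G.obj.map k.op (g T p q) + G.obj.map k.op (g T p q')) (B.add₂ T' x y hxy) := by
      rw [f.map_add₂, B.add_act, ← add₂_act_right B _ x y hxy]
      refine Eq.trans ?_ (B.add₂_act T' _ x _ _)
      exact add₂_congr B (hg T p q k x hx1 hx2) (hg T p q' k y hy1 hy2) _
    have h1 := hg T p (q + q') k (B.add₂ T' x y hxy)
      ((B.πP_add₂ _ _ _ _).trans hx1) (by rw [B.πQ_add₂, hx2, hy2, map_add])
    rw [map_add]
    exact act_free B (h1.symm.trans h2)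
  refine Biext.HomOver.ext' J fun T x => ?_
  rw [hg1, h g hnat hadd₁ hadd₂, B.zero_act]
  rfl

end Groth.Agent.BiextTriv
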