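import Groth.Agent.BiextTriv.ExtOne
import Groth.Agent.BiextTriv.Fibre
import Mathlib.Algebra.Homology.DerivedCategory.Ext.ExactSequences

/-!
A biextension of `(P, Q)` by `G` is trivial when `Ext¹(P, Hom(Q, G))` and `Hom(P, Ext¹(Q, G))` vanish.
-/

set_option autoImplicit false
set_option backward.isDefEq.respectTransparency false
set_option backward.isDefEq.respectTransparency.types false
set_option linter.unusedVariables false

universe u w

open CategoryTheory Category Limits Opposite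

namespace Groth.Agent.BiextTriv

variable {C : Type (u + 1)} [Category.{u} C] {J : GrothendieckTopology C}
variable {P Q G : Sheaf J AddCommGrpCat.{u + 1}} (B : Biext J P Q G)

/-- A section of `P` with an additive family of sections above it. -/
structure MEl (T : C) : Type (u + 1) where
  /-- the section of `P` -/
  p : P.obj.obj (op T)
  /-- the family above it -/
  sec : Sec B p

variable {B}

@[ext]
lemma MEl.ext {T : C} {a b : MEl B T} (hp : a.p = b.p) (hs : ∀ U q, a.sec.s U q = b.sec.s U q) : a = b := by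
  obtain ⟨p, s⟩ := a
  obtain ⟨p', s'⟩ := b
  obtain rfl : p = p' := hp
  obtain rfl : s = s' := Sec.ext (funext fun U => funext (hs U))
  rfl

lemma z₁_add {T : C} (q q' : Q.obj.obj (op T)) :
    z₂ (swap B) T (q + q') = B.add₂ T (z₂ (swap B) T q) (z₂ (swap B) T q')
      ((πQ_z₂ (swap B) T q).trans (πQ_z₂ (swap B) T q').symm) := by
  have h : B.πP T (z₂ (swap B) T q) = B.πP T (z₂ (swap B) T q') :=
    (πQ_z₂ (swap B) T q).trans (πQ_z₂ (swap B) T q').symm
  refine (IsZero₂.unique (z₂_spec (swap B) T (q + q'))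
    ⟨(B.πQ_add₂ T _ _ h).trans (congr_arg₂ (· + ·) (πP_z₂ (swap B) T q) (πP_z₂ (swap B) T q')),
      (B.πP_add₂ T _ _ h).trans (πQ_z₂ (swap B) T q), ?_⟩).symm
  exact (B.compat T _ _ _ _ h h rfl rfl).trans
    (add₂_congr B (z₂_spec (swap B) T q).2.2 (z₂_spec (swap B) T q').2.2 _)

noncomputable instance (T : C) : Add (MEl B T) :=
  ⟨fun a b => ⟨a.p + b.p,
    { s := fun U q => B.add₁ _ (a.sec.s U q) (b.sec.s U q) ((a.sec.πQ_s U q).trans (b.sec.πQ_s U q).symm)
      πP_s := fun U q => by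
        rw [B.πP_add₁, a.sec.πP_s, b.sec.πP_s]; exact (map_add (P.obj.map U.hom.op).hom a.p b.p).symm
      πQ_s := fun U q => (B.πQ_add₁ _ _ _ _).trans (a.sec.πQ_s U q)
      s_map := fun U U' g q => by
        rw [B.add₁_map]
        simp only [a.sec.s_map, b.sec.s_map]
      s_add := fun U q q' => by
        simp only [a.sec.s_add, b.sec.s_add]
        exact B.compat _ _ _ _ _ _ _ _ _ }⟩⟩

lemma MEl.add_p {T : C} (a b : MEl B T) : (a + b).p = a.p + b.p := rfl

lemma MEl.add_s {T : C} (a b : MEl B T) (U : Over T) (q : Q.obj.obj (op U.left)) :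
    (a + b).sec.s U q =
      B.add₁ _ (a.sec.s U q) (b.sec.s U q) ((a.sec.πQ_s U q).trans (b.sec.πQ_s U q).symm) := rfl

noncomputable instance (T : C) : Zero (MEl B T) :=
  ⟨⟨0,
    { s := fun U q => z₂ (swap B) U.left q
      πP_s := fun U q => (πQ_z₂ (swap B) _ _).trans (map_zero (P.obj.map U.hom.op).hom).symm
      πQ_s := fun U q => πP_z₂ (swap B) _ _
      s_map := fun U U' g q => z₂_map (swap B) g.left q
      s_add := fun U q q' => z₁_add q q' }⟩⟩

noncomputable instance (T : C) : Neg (MEl B T) :=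
  ⟨fun a => ⟨-a.p,
    { s := fun U q => neg₂ (swap B) (a.sec.s U q)
      πP_s := fun U q => (πQ_neg₂ (swap B) (a.sec.s U q)).trans
        ((congr_arg Neg.neg (a.sec.πP_s U q)).trans (map_neg (P.obj.map U.hom.op).hom a.p).symm)
      πQ_s := fun U q => (πP_neg₂ (swap B) (a.sec.s U q)).symm.trans (a.sec.πQ_s U q)
      s_map := fun U U' g q => by
        have hQ : B.πQ U.left (a.sec.s U q) = B.πQ U.left (neg₂ (swap B) (a.sec.s U q)) :=
          πP_neg₂ (swap B) (a.sec.s U q)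
        refine add₂_left_cancel (swap B) (x := a.sec.s U' (Q.obj.map g.left.op q))
          ((a.sec.πQ_s U' _).trans (by
            refine Eq.trans ?_ (B.πQ_map g.left _).symm
            rw [← hQ, a.sec.πQ_s]))
          (πP_neg₂ (swap B) _) ?_
        refine Eq.trans ?_ (add₂_neg₂ (swap B) (a.sec.s U' (Q.obj.map g.left.op q))).symm
        refine (add₂_congr (swap B) (a.sec.s_map U U' g q).symm (Eq.refl _) _).trans ?_
        refine ((B.add₁_map g.left _ _ hQ).symm.trans (congr_arg _ (add₂_neg₂ (swap B) (a.sec.s U q)))).trans ?_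
        refine (z₂_map (swap B) g.left _).trans (congr_arg _ ?_)
        exact (B.πQ_map g.left _).symm.trans (congr_arg (B.πQ U'.left) (a.sec.s_map U U' g q))
      s_add := fun U q q' => by
        have h : B.πP U.left (a.sec.s U q) = B.πP U.left (a.sec.s U q') :=
          (a.sec.πP_s U q).trans (a.sec.πP_s U q').symm
        have hn : B.πP U.left (neg₂ (swap B) (a.sec.s U q)) = B.πP U.left (neg₂ (swap B) (a.sec.s U q')) :=
          ((πQ_neg₂ (swap B) (a.sec.s U q)).trans (congr_arg Neg.neg h)).trans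
            (πQ_neg₂ (swap B) (a.sec.s U q')).symm
        have hQ : ∀ r, B.πQ U.left (a.sec.s U r) = B.πQ U.left (neg₂ (swap B) (a.sec.s U r)) := fun r =>
          πP_neg₂ (swap B) (a.sec.s U r)
        refine add₂_left_cancel (swap B) (x := a.sec.s U (q + q')) (πP_neg₂ (swap B) _) ?_ ?_
        · refine (a.sec.πQ_s U _).trans ((congr_arg₂ (· + ·) ?_ ?_).trans (B.πQ_add₂ _ _ _ hn).symm)
          · exact (a.sec.πQ_s U q).symm.trans (hQ q)
          · exact (a.sec.πQ_s U q').symm.trans (hQ q')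
        refine (add₂_neg₂ (swap B) _).trans ?_
        refine Eq.trans ?_ (add₂_congr (swap B) (a.sec.s_add U q q').symm (Eq.refl _)
          (((B.πQ_add₂ _ _ _ h).trans (congr_arg₂ (· + ·) (hQ q) (hQ q'))).trans (B.πQ_add₂ _ _ _ hn).symm))
        refine Eq.trans ?_ (B.compat _ _ _ _ _ h hn (hQ q) (hQ q')).symm
        refine Eq.trans ?_ (add₂_congr B (add₂_neg₂ (swap B) (a.sec.s U q)).symm
          (add₂_neg₂ (swap B) (a.sec.s U q')).symm
          ((πQ_z₂ (swap B) _ _).trans (πQ_z₂ (swap B) _ _).symm))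
        refine (congr_arg (z₂ (swap B) U.left) ?_).trans (z₁_add _ _)
        exact (congr_arg (B.πQ U.left) (a.sec.s_add U q q')).trans (B.πQ_add₂ _ _ _ h) }⟩⟩

noncomputable instance instAddCommGroupMEl (T : C) : AddCommGroup (MEl B T) := by
  have hc : ∀ a b : MEl B T, a + b = b + a := fun a b => MEl.ext (add_comm a.p b.p) fun U q => B.add₁_comm _ _ _ _
  have hz : ∀ a : MEl B T, 0 + a = a := fun a => MEl.ext (zero_add a.p) fun U q =>
    z₂_add₂ (swap B) (a.sec.s U q) (a.sec.πQ_s U q)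
  exact
    { nsmul := nsmulRec
      zsmul := zsmulRec
      add_assoc := fun a b c => MEl.ext (add_assoc a.p b.p c.p) fun U q => B.add₁_assoc _ _ _ _ _ _
      zero_add := hz
      add_zero := fun a => (hc a 0).trans (hz a)
      add_comm := hc
      neg_add_cancel := fun a => (hc _ _).trans (MEl.ext (add_neg_cancel a.p) fun U q =>
        (add₂_neg₂ (swap B) (a.sec.s U q)).trans (congr_arg (z₂ (swap B) U.left) (a.sec.πQ_s U q))) }

/-- Restriction of a pair. -/
def MEl.res {T T' : C} (f : T' ⟶ T) (a : MEl B T) : MEl B T' where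
  p := P.obj.map f.op a.p
  sec :=
    { s := fun V q => a.sec.s (Over.mk (V.hom ≫ f)) q
      πP_s := fun V q => (a.sec.πP_s (Over.mk (V.hom ≫ f)) q).trans (ab_map_map_apply P f V.hom a.p).symm
      πQ_s := fun V q => a.sec.πQ_s (Over.mk (V.hom ≫ f)) q
      s_map := fun V V' g q => a.sec.s_map (Over.mk (V.hom ≫ f)) (Over.mk (V'.hom ≫ f))
        (Over.homMk g.left (show g.left ≫ V.hom ≫ f = V'.hom ≫ f by rw [← assoc, Over.w g])) q
      s_add := fun V q q' => a.sec.s_add (Over.mk (V.hom ≫ f)) q q' }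

lemma MEl.s_congr {T : C} (a : MEl B T) {V : C} {h h' : V ⟶ T} (e : h = h') (q : Q.obj.obj (op V)) :
    a.sec.s (Over.mk h) q = a.sec.s (Over.mk h') q := by subst e; rfl

variable (B)

/-- The presheaf of pairs. -/
noncomputable def MPsh : Cᵒᵖ ⥤ AddCommGrpCat.{u + 1} where
  obj T := AddCommGrpCat.of (MEl B T.unop)
  map {T T'} f := AddCommGrpCat.ofHom (AddMonoidHom.mk' (fun a : MEl B T.unop => a.res f.unop)
    fun a b => MEl.ext (map_add (P.obj.map f).hom a.p b.p) fun _ _ => rfl)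
  map_id T := AddCommGrpCat.ext fun a => MEl.ext (ab_map_id_apply P a.p) fun V q =>
    (a.s_congr (comp_id V.hom) q)
  map_comp f g := AddCommGrpCat.ext fun a => MEl.ext (ab_map_map_apply P f.unop g.unop a.p).symm fun V q =>
    a.s_congr (assoc V.hom g.unop f.unop).symm q

lemma isSheaf_MPsh : Presheaf.IsSheaf J (MPsh B) := by
  rw [Presheaf.isSheaf_iff_isSheaf_forget J (MPsh B) (forget AddCommGrpCat.{u + 1}), isSheaf_iff_isSheaf_of_type]
  intro T R hR fam hfam
  let a : ∀ ⦃T' : C⦄ (f : T' ⟶ T), R f → MEl B T' := fun T' f hf => fam f hf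
  have hcomp : ∀ ⦃Y₁ Y₂ Z : C⦄ (g₁ : Z ⟶ Y₁) (g₂ : Z ⟶ Y₂) ⦃f₁ : Y₁ ⟶ T⦄ ⦃f₂ : Y₂ ⟶ T⦄ (h₁ : R f₁) (h₂ : R f₂),
      g₁ ≫ f₁ = g₂ ≫ f₂ → (a f₁ h₁).res g₁ = (a f₂ h₂).res g₂ := fun Y₁ Y₂ Z g₁ g₂ f₁ f₂ h₁ h₂ e =>
    hfam g₁ g₂ h₁ h₂ e
  obtain ⟨p, hp⟩ := exists_glue_ab P hR (fun T' f x => ∃ hf : R f, x = (a f hf).p)
    (fun T' T'' f g x _ ⟨hf, hx⟩ => ⟨R.downward_closed hf g, by
      rw [hx]
      exact (congr_arg MEl.p (hcomp g (𝟙 T'') hf (R.downward_closed hf g) (id_comp _).symm)).trans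
        (ab_map_id_apply P _)⟩)
    (fun T' f x y _ ⟨_, hx⟩ ⟨_, hy⟩ => hx.trans hy.symm) (fun T' f hf => ⟨_, hf, rfl⟩)
  let Ok : ∀ U : Over T, Q.obj.obj (op U.left) → ∀ ⦃Z : C⦄, (Z ⟶ U.left) → B.E.obj.obj (op Z) → Prop :=
    fun U q Z k e => ∀ hk : R (k ≫ U.hom), e = (a _ hk).sec.s (Over.mk (𝟙 Z)) (Q.obj.map k.op q)
  have key : ∀ (U : Over T) (q : Q.obj.obj (op U.left)) ⦃Z Z' : C⦄ (k : Z ⟶ U.left) (g : Z' ⟶ Z)
      (hk : R (k ≫ U.hom)) (hk' : R ((g ≫ k) ≫ U.hom)),
      B.E.obj.map g.op ((a _ hk).sec.s (Over.mk (𝟙 Z)) (Q.obj.map k.op q)) =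
        (a _ hk').sec.s (Over.mk (𝟙 Z')) (Q.obj.map (g ≫ k).op q) := by
    intro U q Z Z' k g hk hk'
    have h1 := (a _ hk).sec.s_map (Over.mk (𝟙 Z)) (Over.mk g) (Over.homMk g (comp_id g)) (Q.obj.map k.op q)
    have h2 := congr_arg (fun b : MEl B Z' => b.sec.s (Over.mk (𝟙 Z')) (Q.obj.map (g ≫ k).op q))
      (hcomp g (𝟙 Z') hk hk' (by rw [id_comp, assoc]))
    refine h1.trans ((congr_arg _ (ab_map_map_apply Q k g q)).trans (Eq.trans ?_ (h2.trans ?_)))
    · exact ((a _ hk).s_congr (id_comp g) _).symm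
    · exact (a _ hk').s_congr (id_comp _) _
  have hs : ∀ (U : Over T) (q : Q.obj.obj (op U.left)), ∃ x : B.E.obj.obj (op U.left),
      ∀ ⦃Z : C⦄ (k : Z ⟶ U.left), R (k ≫ U.hom) → Ok U q k (B.E.obj.map k.op x) := fun U q =>
    exists_glue B.E (J.pullback_stable U.hom hR) (fun Z k e => Ok U q k e)
      (fun Z Z' k g e hk he hk' => by rw [he hk]; exact key U q k g hk hk')
      (fun Z k e e' hk he he' => (he hk).trans (he' hk).symm)
      (fun Z k hk => ⟨(a _ hk).sec.s (Over.mk (𝟙 Z)) (Q.obj.map k.op q), fun _ => rfl⟩)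
  choose s hs using hs
  have hP : ∀ U q, B.πP U.left (s U q) = pres p U := fun U q =>
    ab_ext_local P (J.pullback_stable U.hom hR) _ _ fun Z k hk => by
      obtain ⟨hk', hpk⟩ := hp (k ≫ U.hom) hk
      rw [← B.πP_map, hs U q k hk hk']
      exact ((a _ hk').sec.πP_s (Over.mk (𝟙 Z)) _).trans
        ((ab_map_id_apply P _).trans (hpk.symm.trans (ab_map_map_apply P U.hom k p).symm))
  have hQ : ∀ U q, B.πQ U.left (s U q) = q := fun U q =>
    ab_ext_local Q (J.pullback_stable U.hom hR) _ _ fun Z k hk => by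
      rw [← B.πQ_map, hs U q k hk hk]
      exact (a _ hk).sec.πQ_s (Over.mk (𝟙 Z)) _
  have hsm : ∀ (U U' : Over T) (g : U' ⟶ U) q, B.E.obj.map g.left.op (s U q) = s U' (Q.obj.map g.left.op q) :=
    fun U U' g q => ext_local B.E (J.pullback_stable U'.hom hR) _ _ fun Z k hk => by
      have hk2 : R ((k ≫ g.left) ≫ U.hom) := by rw [assoc, Over.w g]; exact hk
      rw [map_map_apply, hs U q _ hk2 hk2, hs U' _ k hk hk, ab_map_map_apply Q g.left k]
      have e : a _ hk2 = a _ hk := by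
        have key2 : ∀ (f f' : Z ⟶ T) (e : f = f') (hf : R f) (hf' : R f'), a f hf = a f' hf' := by
          rintro f f' rfl hf hf'; rfl
        exact key2 _ _ (by rw [assoc, Over.w g]) _ _
      rw [e]
  have hadd : ∀ (U : Over T) q q', s U (q + q') =
      B.add₂ _ (s U q) (s U q') ((hP U q).trans (hP U q').symm) := fun U q q' =>
    ext_local B.E (J.pullback_stable U.hom hR) _ _ fun Z k hk => by
      refine (hs U _ k hk hk).trans (Eq.trans ?_ (B.add₂_map k (s U q) (s U q') _).symm)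
      refine (congr_arg ((a _ hk).sec.s (Over.mk (𝟙 Z))) (map_add (Q.obj.map k.op).hom q q')).trans ?_
      exact ((a _ hk).sec.s_add _ _ _).trans (add₂_congr B (hs U q k hk hk).symm (hs U q' k hk hk).symm _)
  have huniq : ∀ (U : Over T) q x, (∀ ⦃Z : C⦄ (k : Z ⟶ U.left), R (k ≫ U.hom) → Ok U q k (B.E.obj.map k.op x)) →
      x = s U q := fun U q x hx => ext_local B.E (J.pullback_stable U.hom hR) _ _ fun Z k hk =>
    (hx k hk hk).trans (hs U q k hk hk).symm
  refine ⟨(⟨p, ⟨s, hP, hQ, hsm, hadd⟩⟩ : MEl B T), fun T' f hf => MEl.ext (hp f hf).2 fun V q => ?_, ?_⟩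
  · refine (huniq (Over.mk (V.hom ≫ f)) q ((a f hf).sec.s V q) fun Z k hk hk' => ?_).symm
    change B.E.obj.map k.op ((a f hf).sec.s V q) = _
    have h1 := (a f hf).sec.s_map V (Over.mk (k ≫ V.hom)) (Over.homMk k rfl) q
    have h2 := congr_arg (fun b : MEl B Z => b.sec.s (Over.mk (𝟙 Z)) (Q.obj.map k.op q))
      (hcomp (k ≫ V.hom) (𝟙 Z) hf hk' (by rw [id_comp, assoc]; rfl))
    refine h1.trans (Eq.trans ?_ (h2.trans ((a _ hk').s_congr (id_comp _) _)))
    exact ((a f hf).s_congr (id_comp _) _).symm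
  · intro b hb
    refine MEl.ext (ab_ext_local P hR _ _ fun T' f hf => ?_) fun U q => huniq U q _ fun Z k hk hk' => ?_
    · exact (congr_arg MEl.p (hb f hf)).trans (hp f hf).2.symm
    · have h1 := (b : MEl B T).sec.s_map U (Over.mk (k ≫ U.hom)) (Over.homMk k rfl) q
      have h2 := congr_arg (fun c : MEl B Z => c.sec.s (Over.mk (𝟙 Z)) (Q.obj.map k.op q)) (hb _ hk')
      refine h1.trans (Eq.trans ?_ h2)
      exact ((b : MEl B T).s_congr (id_comp _) _).symm

/-- The sheaf of pairs. -/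
noncomputable def MSh : Sheaf J AddCommGrpCat.{u + 1} := ⟨MPsh B, isSheaf_MPsh B⟩

/-- The projection to `P`. -/
noncomputable def toP : MSh B ⟶ P :=
  ⟨{ app := fun T => AddCommGrpCat.ofHom (AddMonoidHom.mk' (fun a : MEl B T.unop => a.p) fun _ _ => rfl)
     naturality := fun _ _ _ => rfl }⟩

lemma act_add₁ {T : C} (g g' : G.obj.obj (op T)) (x y : B.E.obj.obj (op T)) (h : B.πQ T x = B.πQ T y) :
    B.add₁ T (B.act T g x) (B.act T g' y) ((B.πQ_act T g x).trans (h.trans (B.πQ_act T g' y).symm)) =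
      B.act T (g + g') (B.add₁ T x y h) :=
  act_add₂ (swap B) g g' x y h

/-- A homomorphism `Q → G` on a slice as a family above zero. -/
noncomputable def homEl {T : C} (φ : Q.over T ⟶ G.over T) : MEl B T where
  p := 0
  sec :=
    { s := fun U q => B.act U.left (φ.hom.app (op U) q) (z₂ (swap B) U.left q)
      πP_s := fun U q => (B.πP_act _ _ _).trans
        ((πQ_z₂ (swap B) _ _).trans (map_zero (P.obj.map U.hom.op).hom).symm)
      πQ_s := fun U q => (B.πQ_act _ _ _).trans (πP_z₂ (swap B) _ _)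
      s_map := fun U U' g q => (B.act_map g.left _ _).trans
        (congr_arg₂ (B.act U'.left) (NatTrans.naturality_apply φ.hom g.op q).symm (z₂_map (swap B) g.left q))
      s_add := fun U q q' => (congr_arg₂ (B.act U.left) (map_add (φ.hom.app (op U)).hom q q') (z₁_add q q')).trans
        (act_add₂ B _ _ _ _ _).symm }

/-- The inclusion of `Hom(Q, G)`. -/
noncomputable def fromHom : HomSh.homSh J Q G ⟶ MSh B :=
  ⟨{ app := fun T => AddCommGrpCat.ofHom (AddMonoidHom.mk' (fun φ => (homEl B φ : MEl B T.unop))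
       fun φ ψ => MEl.ext (add_zero (0 : P.obj.obj T)).symm fun U q =>
         (congr_arg (B.act U.left _) (z₂_spec (swap B) U.left q).2.2.symm).trans (act_add₁ B _ _ _ _ rfl).symm)
     naturality := fun T T' f => AddCommGrpCat.ext fun φ => MEl.ext (map_zero (P.obj.map f).hom).symm
       fun V q => rfl }⟩

lemma fromHom_toP : fromHom B ≫ toP B = 0 := rfl

lemma exists_hom_of_p_eq_zero {T : C} (a : MEl B T) (ha : a.p = 0) :
    ∃ φ : Q.over T ⟶ G.over T, homEl B φ = a := by
  have hp : ∀ U : Over T, pres a.p U = 0 := fun U => by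
    rw [ha]; exact map_zero (P.obj.map U.hom.op).hom
  have hex : ∀ (U : Over T) q, ∃ g, a.sec.s U q = B.act U.left g (z₂ (swap B) U.left q) := fun U q =>
    exists_act _ _ ((πQ_z₂ (swap B) _ _).trans ((hp U).symm.trans (a.sec.πP_s U q).symm))
      ((πP_z₂ (swap B) _ _).trans (a.sec.πQ_s U q).symm)
  obtain ⟨φ, hφ⟩ := exists_hom Q G T (fun U q g => a.sec.s U q = B.act U.left g (z₂ (swap B) U.left q))
    (fun U U' g q y hy => by
      rw [← a.sec.s_map, hy, B.act_map]
      exact congr_arg _ (z₂_map (swap B) g.left q))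
    (fun U q y y' hy hy' => act_free B (hy.symm.trans hy'))
    (fun U q q' y y' hy hy' => (a.sec.s_add U q q').trans ((add₂_congr B hy hy' _).trans
      ((act_add₂ B _ _ _ _ _).trans (congr_arg _ (z₁_add q q').symm))))
    (fun U q => ⟨⊤, J.top_mem _, fun T' f _ => hex _ _⟩)
  refine ⟨φ, MEl.ext ha.symm fun U q => ?_⟩
  obtain ⟨g, hg⟩ := hex U q
  exact (congr_arg (fun x => B.act U.left x (z₂ (swap B) U.left q)) (hφ U q g hg)).trans hg.symm

/-- **Triviality of biextensions.** -/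
theorem isTrivial_of_vanishing [HasSheafify J AddCommGrpCat.{u + 1}]
    [J.WEqualsLocallyBijective AddCommGrpCat.{u + 1}]
    [HasInjectiveResolutions (Sheaf J AddCommGrpCat.{u + 1})] [HasExt.{w} (Sheaf J AddCommGrpCat.{u + 1})]
    (h₁ : ∀ e : Abelian.Ext P (HomSh.homSh J Q G) 1, e = 0)
    (h₂ : ∀ φ : P ⟶ (HomSh.extSh J Q 1).obj G, φ = 0) : Biext.IsTrivial J B := by
  obtain ⟨I, K, ι, π, w, δ, hI, hι, ⟨hK⟩, hδπ, hδ⟩ := exists_delta J Q G
  let χ : ∀ (T : C), P.obj.obj (op T) → (Q.over T ⟶ K.over T) := fun T p =>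
    (exists_rel (B := B) (ι := ι) (π := π) w p).choose
  have hχ : ∀ T p, Rel B ι π p (χ T p) := fun T p => (exists_rel w p).choose_spec
  let dl : ∀ T : C, (Q.over T ⟶ K.over T) → ((HomSh.extSh J Q 1).obj G).obj.obj (op T) := fun T x =>
    δ.hom.app (op T) x
  have hadd : ∀ T (p p' : P.obj.obj (op T)) x x' x'', Rel B ι π p x → Rel B ι π p' x' →
      Rel B ι π (p + p') x'' → dl T x'' = dl T x + dl T x' := by
    intro T p p' x x' x'' hx hx' hx''
    obtain ⟨θ, hθ⟩ := Rel.add hx hx' hx''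
    have h0 : dl T (x'' - x - x') = 0 :=
      (congr_arg (dl T) hθ.symm).trans
        (congr_arg (fun φ : HomSh.homSh J Q I ⟶ (HomSh.extSh J Q 1).obj G => φ.hom.app (op T) θ) hδπ)
    have h1 : dl T (x'' - x - x') = dl T x'' - dl T x - dl T x' := by
      change δ.hom.app (op T) (x'' - x - x') = _
      exact (map_sub (δ.hom.app (op T)).hom _ _).trans (congr_arg (· - _) (map_sub (δ.hom.app (op T)).hom _ _))
    rw [h1, sub_sub, sub_eq_zero] at h0
    exact h0
  have hwd : ∀ T (p : P.obj.obj (op T)) x, Rel B ι π p x → dl T x = dl T (χ T p) := fun T p x hx => by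
    have a := hadd T p 0 (χ T p) (χ T 0) x (hχ T p) (hχ T 0) ((add_zero p).symm ▸ hx)
    have b := hadd T p 0 (χ T p) (χ T 0) (χ T p) (hχ T p) (hχ T 0) ((add_zero p).symm ▸ hχ T p)
    exact a.trans b.symm
  let Φ : P ⟶ (HomSh.extSh J Q 1).obj G :=
    ⟨{ app := fun T => AddCommGrpCat.ofHom (AddMonoidHom.mk' (fun p => dl T.unop (χ T.unop p))
        fun p p' => hadd _ p p' _ _ _ (hχ _ p) (hχ _ p') (hχ _ (p + p')))
       naturality := fun T T' f => AddCommGrpCat.ext fun p =>
        (hwd T'.unop (P.obj.map f p) _ (Rel.res (hχ T.unop p) f.unop)).symm.trans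
          (NatTrans.naturality_apply δ.hom f (χ T.unop p)) }⟩
  have hΦ : ∀ T p, dl T (χ T p) = 0 := fun T p =>
    congr_arg (fun φ : P ⟶ (HomSh.extSh J Q 1).obj G => φ.hom.app (op T) p) (h₂ Φ)
  let S : ShortComplex (Sheaf J AddCommGrpCat.{u + 1}) := ShortComplex.mk (fromHom B) (toP B) (fromHom_toP B)
  have hinj : ∀ T (φ φ' : Q.over T ⟶ G.over T), homEl B φ = homEl B φ' → φ = φ' := fun T φ φ' h =>
    Sheaf.hom_ext (NatTrans.ext (funext fun U => AddCommGrpCat.ext fun q =>
      act_free B (congr_arg (fun a : MEl B T => a.sec.s U.unop q) h)))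
  haveI : Mono (fromHom B) := by
    haveI : ∀ T, Mono ((fromHom B).hom.app T) := fun T =>
      (AddCommGrpCat.mono_iff_injective _).mpr fun φ φ' h => hinj T.unop φ φ' h
    haveI : Mono (fromHom B).hom := NatTrans.mono_of_mono_app _
    exact (sheafToPresheaf J AddCommGrpCat.{u + 1}).mono_of_mono_map (f := fromHom B) this
  haveI : Epi (toP B) := by
    refine (Sheaf.isLocallySurjective_iff_epi' _ _).mp ⟨fun {T} p => ?_⟩
    obtain ⟨R, hR, hl⟩ := hδ T (χ T p) (hΦ T p)
    refine J.superset_covering (fun T' f hf => ?_) hR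
    obtain ⟨θ, hθ⟩ := hl f hf
    obtain ⟨σ⟩ := exists_sec hK ((hχ T p).res f) θ hθ
    exact ⟨(⟨P.obj.map f.op p, σ⟩ : MEl B T'), rfl⟩
  have hS : S.ShortExact := by
    refine { exact := ?_, mono_f := inferInstanceAs (Mono (fromHom B)), epi_g := inferInstanceAs (Epi (toP B)) }
    refine ShortComplex.exact_of_f_is_kernel S (KernelFork.IsLimit.ofι' _ S.zero fun {Z} k hk => ?_)
    have hex : ∀ T (z : Z.obj.obj T), ∃ φ : Q.over T.unop ⟶ G.over T.unop, homEl B φ = k.hom.app T z :=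
      fun T z => exists_hom_of_p_eq_zero B (T := T.unop) _
        (congr_arg (fun φ : Z ⟶ P => φ.hom.app T z) hk)
    choose l hl using hex
    have hlz : ∀ T (z : Z.obj.obj T), (fromHom B).hom.app T (l T z) = k.hom.app T z := hl
    refine ⟨⟨{ app := fun T => AddCommGrpCat.ofHom (AddMonoidHom.mk' (fun z => l T z) fun z z' => ?_)
               naturality := fun T T' f => AddCommGrpCat.ext fun z => ?_ }⟩, ?_⟩
    · refine hinj T.unop _ _ ?_
      exact ((hlz T _).trans (map_add (k.hom.app T).hom z z')).trans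
        ((congr_arg₂ (· + ·) (hlz T z) (hlz T z')).symm.trans
          (map_add ((fromHom B).hom.app T).hom (l T z) (l T z')).symm)
    · refine hinj T'.unop _ _ ?_
      exact ((hlz T' _).trans (NatTrans.naturality_apply k.hom f z)).trans
        ((congr_arg ((MSh B).obj.map f) (hlz T z)).symm.trans
          (NatTrans.naturality_apply (fromHom B).hom f (l T z)).symm)
    · exact Sheaf.hom_ext (NatTrans.ext (funext fun T => AddCommGrpCat.ext fun z => hlz T z))
  obtain ⟨x, hx⟩ := Abelian.Ext.covariant_sequence_exact₃ P hS (Abelian.Ext.mk₀ (𝟙 P)) (zero_add 1)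
    (by rw [Abelian.Ext.mk₀_id_comp]; exact h₁ _)
  obtain ⟨σ, rfl⟩ := (Abelian.Ext.mk₀_bijective _ _).2 x
  rw [Abelian.Ext.mk₀_comp_mk₀] at hx
  have hσ : σ ≫ toP B = 𝟙 P := (Abelian.Ext.mk₀_bijective _ _).1 hx
  let el : ∀ T, P.obj.obj (op T) → MEl B T := fun T p => σ.hom.app (op T) p
  have help : ∀ T p, (el T p).p = p := fun T p => congr_arg (fun φ : P ⟶ P => φ.hom.app (op T) p) hσ
  refine ⟨{ σ := fun T p q => (el T p).sec.s (Over.mk (𝟙 T)) q
            πP_σ := fun T p q => ((el T p).sec.πP_s (Over.mk (𝟙 T)) q).trans ((ab_map_id_apply P _).trans (help T p))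
            πQ_σ := fun T p q => (el T p).sec.πQ_s (Over.mk (𝟙 T)) q
            σ_map := fun {T T'} f p q => ?_
            σ_add₁ := fun T p p' q => ?_
            σ_add₂ := fun T p q q' => (el T p).sec.s_add (Over.mk (𝟙 T)) q q' }⟩
  · have h1 := (el T p).sec.s_map (Over.mk (𝟙 T)) (Over.mk f) (Over.homMk f (comp_id f)) q
    have h2 := congr_arg (fun a : MEl B T' => a.sec.s (Over.mk (𝟙 T')) (Q.obj.map f.op q))
      (NatTrans.naturality_apply σ.hom f.op p)
    exact h1.trans (((el T p).s_congr (id_comp f) _).symm.trans h2.symm)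
  · exact congr_arg (fun a : MEl B T => a.sec.s (Over.mk (𝟙 T)) q) (map_add (σ.hom.app (op T)).hom p p')

end Groth.Agent.BiextTriv
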